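import Cfsg.Agent.Lib.MTwelveOrder.Structure
import Cfsg.Agent.Lib.MEleven.Five
import Cfsg.Agent.Lib.Concrete.SporMathieu

/-!
Some degree of M12 is divisible by 55 and some by 33: the characters outside the principal 11-block,
seen at an element of order 5 and at an involution centralising one.
-/

set_option autoImplicit false
set_option linter.style.haveILetI false
set_option linter.unusedSectionVars false
set_option maxRecDepth 100000

namespace Cfsg.Lib.MTwelveGraph

open Cfsg Cfsg.Lib.Char Cfsg.Lib.Block Cfsg.Lib.MTwelveOrder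
open Subgroup (centralizer zpowers normalizer)

universe u

local instance fact_five_degrees : Fact (Nat.Prime 5) := ⟨by norm_num⟩
local instance fact_eleven_degrees : Fact (Nat.Prime 11) := ⟨by norm_num⟩

/-- The divisors of 8640 up to 21 that are prime to 5. -/
def ks : List ℕ := [1, 2, 3, 4, 6, 8, 9, 12, 16, 18]

/-- The pairs of a cofactor and a small value congruent to it modulo 5. -/
def opts (A : List ℕ) : List (ℕ × ℤ) :=
  A.flatMap fun (k : ℕ) => ([-2, -1, 1, 2] : List ℤ).filterMap fun v =>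
    if (v - (k : ℤ)) % 5 = 0 then some (k, v) else none

/-- One more member. -/
def addOne (O : List (ℕ × ℤ)) (R : List (ℕ × ℤ × ℕ)) : List (ℕ × ℤ × ℕ) :=
  (R ++ R.flatMap fun r => O.filterMap fun o =>
    if r.1 + o.1 * o.1 ≤ 450 ∧ r.2.2 + o.2.natAbs * o.2.natAbs ≤ 5 then
      some (r.1 + o.1 * o.1, r.2.1 + (o.1 : ℤ) * o.2, r.2.2 + o.2.natAbs * o.2.natAbs)
    else none).dedup

/-- The sums of up to `n` members. -/
def reach (O : List (ℕ × ℤ)) : ℕ → List (ℕ × ℤ × ℕ)
  | 0 => [(0, 0, 0)]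
  | n + 1 => addOne O (reach O n)

theorem reach_mono (O : List (ℕ × ℤ)) {m n : ℕ} (h : m ≤ n) {r : ℕ × ℤ × ℕ} (hr : r ∈ reach O m) :
    r ∈ reach O n := by
  induction h with
  | refl => exact hr
  | step _ ih => exact List.mem_dedup.2 (List.mem_append_left _ ih)

theorem mem_reach {α : Type*} [DecidableEq α] (A : List ℕ) (k : α → ℕ) (v : α → ℤ) (s : Finset α)
    (hA : ∀ x ∈ s, k x ∈ A) (h5 : ∀ x ∈ s, ¬ (5 : ℤ) ∣ (k x : ℤ))
    (hc : ∀ x ∈ s, (5 : ℤ) ∣ v x - (k x : ℤ))
    (hK : ∑ x ∈ s, k x * k x ≤ 450) (hq : ∑ x ∈ s, (v x).natAbs * (v x).natAbs ≤ 5) :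
    (∑ x ∈ s, k x * k x, ∑ x ∈ s, (k x : ℤ) * v x, ∑ x ∈ s, (v x).natAbs * (v x).natAbs) ∈
      reach (opts A) 5 := by
  have hpos : ∀ x ∈ s, 1 ≤ (v x).natAbs * (v x).natAbs := by
    intro x hx
    have : v x ≠ 0 := fun e => h5 x hx (by
      have := hc x hx
      rw [e, zero_sub, Int.dvd_neg] at this
      exact this)
    exact Nat.one_le_iff_ne_zero.2 (by positivity)
  have hcard : s.card ≤ 5 := le_trans (by
    have := Finset.sum_le_sum hpos
    simpa using this) hq
  refine reach_mono _ hcard ?_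
  clear hcard
  induction s using Finset.induction_on with
  | empty => simp [reach]
  | insert a s ha ih =>
    rw [Finset.sum_insert ha] at hK hq
    have hv : v a ∈ ([-2, -1, 1, 2] : List ℤ) := by
      have h1 : (v a).natAbs * (v a).natAbs ≤ 5 := by omega
      have h2 := hpos a (Finset.mem_insert_self a s)
      have h3 : (v a).natAbs ≤ 2 := by nlinarith
      have h4 : (v a).natAbs ≠ 0 := fun e => by rw [e] at h2; simp at h2
      simp only [List.mem_cons, List.not_mem_nil, or_false]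
      omega
    have ih' := ih (fun x hx => hA x (Finset.mem_insert_of_mem hx)) (fun x hx => h5 x (Finset.mem_insert_of_mem hx))
      (fun x hx => hc x (Finset.mem_insert_of_mem hx)) (by omega) (by omega)
      (fun x hx => hpos x (Finset.mem_insert_of_mem hx))
    rw [Finset.card_insert_of_notMem ha]
    refine List.mem_dedup.2 (List.mem_append_right _ (List.mem_flatMap.2 ⟨_, ih', List.mem_filterMap.2
      ⟨(k a, v a), List.mem_flatMap.2 ⟨k a, hA a (Finset.mem_insert_self a s), List.mem_filterMap.2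
        ⟨v a, hv, if_pos (Int.emod_eq_zero_of_dvd (hc a (Finset.mem_insert_self a s)))⟩⟩, ?_⟩⟩))
    rw [Finset.sum_insert ha, Finset.sum_insert ha, Finset.sum_insert ha, if_pos ⟨by simp only; omega, by simp only; omega⟩]
    simp only [Option.some.injEq, Prod.mk.injEq]
    exact ⟨add_comm _ _, add_comm _ _, add_comm _ _⟩

theorem full_check : ∀ r ∈ reach (opts ks) 5, r.2.1 = 15 → r.2.2 = 5 → r.1 ≠ 450 := by decide +kernel

theorem no_three_check : ∀ r ∈ reach (opts [1, 2, 4, 8, 16]) 5, r.2.1 = 15 → r.2.2 = 5 →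
    (450 - r.1) % 25 = 0 → r.1 = 275 := by decide +kernel

theorem ks_check : ∀ k ∈ List.range 22, k ∣ 8640 → ¬ 5 ∣ k →
    k ∈ ks ∧ (¬ 3 ∣ k → k ∈ ([1, 2, 4, 8, 16] : List ℕ)) := by
  decide +kernel

variable {G : Type u} [Group G] [Fintype G] (hG : IsM12 G) {H : Subgroup G} (hH : Nat.card H = 7920)
  (hHs : IsSimpleGroup H)

include hG hH hHs

/-- The centraliser of an element of order 5 of a subgroup M11 has order at most 10, and the element is
conjugate to its powers. -/
theorem five_subgroup {q : H} (hq : orderOf q = 5) :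
    Nat.card (centralizer ({(q : G)} : Set G)) ≤ 10 ∧ ∀ i, ¬ 5 ∣ i → IsConj (q : G) ((q : G) ^ i) := by
  classical
  haveI := hG.1
  haveI := Fintype.ofFinite H
  have h11 : IsM11 H := ⟨hHs, hH⟩
  haveI : Fact (Nat.Prime 2) := ⟨Nat.prime_two⟩
  haveI : Fact (Nat.Prime 3) := ⟨Nat.prime_three⟩
  obtain ⟨EB⟩ := MEleven.nonempty_elevenBlock h11
  obtain ⟨hC5, hN20, -⟩ := MEleven.five_facts h11 EB hq
  refine ⟨?_, fun i hi => ?_⟩
  swap
  · obtain ⟨c, hc⟩ := isConj_iff.1 (MEleven.isConj_pow_five_of_twenty h11 hq hC5 hN20 hi)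
    exact isConj_iff.2 ⟨(c : G), by
      have := congrArg (fun z : H => (z : G)) hc
      simpa using this⟩
  have hqG : orderOf (q : G) = 5 := by rw [Subgroup.orderOf_coe, hq]
  set Q := zpowers (q : G) with hQ
  set N := normalizer (Q : Set G) with hN
  set C := centralizer ({(q : G)} : Set G) with hC
  have hQH : Q ≤ H := Subgroup.zpowers_le.2 q.2
  have hidx : H.index = 12 := by
    have h := Subgroup.card_mul_index H
    rw [hH, hG.2] at h
    omega
  have hQmap : (zpowers q).map H.subtype = Q := by rw [MonoidHom.map_zpowers]; rfl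
  have hNH : Nat.card (N.subgroupOf H) = 20 := by
    rw [← hN20]
    congr 2
    ext h
    rw [Subgroup.mem_subgroupOf, hN, Subgroup.mem_normalizer_iff, Subgroup.mem_normalizer_iff]
    constructor
    · intro hh x
      have := hh (x : G)
      rw [← hQmap] at this
      exact (Subgroup.mem_map_iff_mem H.subtype_injective).symm.trans (this.trans
        (Subgroup.mem_map_iff_mem H.subtype_injective (K := zpowers q) (x := h * x * h⁻¹)))
    · intro hh x
      constructor
      · intro hx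
        obtain ⟨y, hy, rfl⟩ := hQmap.symm ▸ hx
        exact hQmap ▸ ⟨h * y * h⁻¹, (hh y).1 hy, rfl⟩
      · intro hx
        obtain ⟨y, hy, hyx⟩ := hQmap.symm ▸ hx
        refine hQmap ▸ ⟨h⁻¹ * y * h, (hh _).2 ?_, ?_⟩
        · rwa [show h * (h⁻¹ * y * h) * h⁻¹ = y by group]
        · show ((h : G))⁻¹ * (y : G) * h = x
          rw [show (y : G) = h * x * (h : G)⁻¹ from hyx]
          group
  set r := H.relIndex N with hr
  have hcardN : Nat.card N = 20 * r := by
    have h := Subgroup.card_mul_index (H.subgroupOf N)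
    rw [show (H.subgroupOf N).index = r from rfl] at h
    rw [← h, ← hNH]
    congr 1
    exact Nat.card_congr
      { toFun := fun x => ⟨⟨(x : N), Subgroup.mem_subgroupOf.1 x.2⟩, Subgroup.mem_subgroupOf.2 x.1.2⟩
        invFun := fun x => ⟨⟨(x : H), Subgroup.mem_subgroupOf.1 x.2⟩, Subgroup.mem_subgroupOf.2 x.1.2⟩
        left_inv := fun _ => rfl
        right_inv := fun _ => rfl }
  -- the fixed points of the subgroup of order 5 on the twelve cosets are one orbit of its normaliser
  have hfix : MulAction.fixedPoints Q (G ⧸ H) = MulAction.orbit N ((1 : G) : G ⧸ H) := by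
    ext ω
    induction ω using QuotientGroup.induction_on with
    | H g =>
      constructor
      · intro hg
        have hm : g⁻¹ * q * g ∈ H := by
          have h' : ((q : G) • (g : G ⧸ H)) = (g : G ⧸ H) := hg ⟨q, Subgroup.mem_zpowers _⟩
          rw [MulAction.Quotient.smul_coe, smul_eq_mul, eq_comm, QuotientGroup.eq] at h'
          simpa [mul_assoc] using h'
        have ho : orderOf (⟨g⁻¹ * q * g, hm⟩ : H) = 5 := by
          rw [Subgroup.orderOf_mk, show g⁻¹ * (q : G) * g = MulAut.conj g⁻¹ (q : G) by simp,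
            MulEquiv.orderOf_eq, hqG]
        obtain ⟨P₁, hP₁⟩ := MEleven.zpowers_five h11 hq
        obtain ⟨P₂, hP₂⟩ := MEleven.zpowers_five h11 ho
        obtain ⟨h, hh⟩ := MulAction.exists_smul_eq H P₁ P₂
        have hh' : (zpowers (h * q * h⁻¹)) = zpowers (⟨g⁻¹ * q * g, hm⟩ : H) := by
          rw [← hP₂, ← hh, Sylow.coe_subgroup_smul, hP₁]
          show _ = (zpowers q).map (MulAut.conj h).toMonoidHom
          rw [MonoidHom.map_zpowers]
          rfl
        refine ⟨⟨g * h, ?_⟩, ?_⟩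
        · have he : Q.map (MulAut.conj (g * h)).toMonoidHom = Q := by
            rw [hQ, MonoidHom.map_zpowers]
            show zpowers ((g * h) * q * (g * h)⁻¹) = _
            have := congrArg (fun K : Subgroup H => (K.map H.subtype).map (MulAut.conj g).toMonoidHom) hh'
            simp only [MonoidHom.map_zpowers] at this
            refine Eq.trans ?_ (this.trans ?_)
            · congr 1
              show g * (h : G) * q * (g * (h : G))⁻¹ = g * ((h : G) * q * (h : G)⁻¹) * g⁻¹
              group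
            · congr 1
              show g * (g⁻¹ * (q : G) * g) * g⁻¹ = q
              group
          rw [hN, Subgroup.mem_normalizer_iff]
          intro x
          constructor
          · exact fun hx => he ▸ ⟨x, hx, rfl⟩
          · intro hx
            obtain ⟨y, hy, hyx⟩ := he.symm ▸ hx
            rwa [← MulEquiv.injective (MulAut.conj (g * h)) hyx]
        · show (g * (h : G)) • ((1 : G) : G ⧸ H) = (g : G ⧸ H)
          rw [MulAction.Quotient.smul_coe, smul_eq_mul, mul_one]
          exact (QuotientGroup.eq).2 (by simp)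
      · rintro ⟨⟨n, hn⟩, hng⟩ ⟨y, hy⟩
        rw [← hng]
        show y • (n • ((1 : G) : G ⧸ H)) = n • ((1 : G) : G ⧸ H)
        rw [MulAction.Quotient.smul_coe, MulAction.Quotient.smul_coe, smul_eq_mul, smul_eq_mul, mul_one,
          eq_comm, QuotientGroup.eq]
        refine hQH ?_
        have := ((Subgroup.mem_normalizer_iff.1 (inv_mem hn)) y).1 hy
        simpa [mul_assoc] using this
  have hrcard : Nat.card (MulAction.fixedPoints Q (G ⧸ H)) = r := by
    rw [hfix, Nat.card_coe_set_eq, ← MulAction.index_stabilizer, hr]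
    congr 1
    ext n
    rw [MulAction.mem_stabilizer_iff, Subgroup.mem_subgroupOf]
    show (n : G) • ((1 : G) : G ⧸ H) = ((1 : G) : G ⧸ H) ↔ _
    rw [MulAction.Quotient.smul_coe, smul_eq_mul, mul_one, QuotientGroup.eq, mul_one, inv_mem_iff]
  have hQp : IsPGroup 5 Q := IsPGroup.of_card (n := 1) (by rw [Nat.card_zpowers, hqG, pow_one])
  have hmod := hQp.card_modEq_card_fixedPoints (G ⧸ H)
  rw [hrcard, ← Subgroup.index_eq_card, hidx] at hmod
  have hr12 : r ≤ 12 := by
    rw [← hrcard, ← hidx, Subgroup.index_eq_card]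
    exact Nat.card_le_card_of_injective _ Subtype.val_injective
  have hrd : 20 * r ∣ 95040 := hcardN ▸ hG.2 ▸ Subgroup.card_subgroup_dvd_card N
  have hrne : r ≠ 12 := by
    intro e
    have hall : ∀ ω : G ⧸ H, ω ∈ MulAction.fixedPoints Q (G ⧸ H) := fun ω => by
      have hu : MulAction.fixedPoints Q (G ⧸ H) = Set.univ := by
        refine Set.eq_of_subset_of_ncard_le (Set.subset_univ _) ?_ (Set.toFinite _)
        rw [Set.ncard_univ, ← Nat.card_coe_set_eq, hrcard, ← Subgroup.index_eq_card, hidx, e]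
      rw [hu]; trivial
    have hcore : (q : G) ∈ H.normalCore := by
      intro b
      have h' : ((q : G) • ((b⁻¹ : G) : G ⧸ H)) = ((b⁻¹ : G) : G ⧸ H) :=
        hall ((b⁻¹ : G) : G ⧸ H) ⟨q, Subgroup.mem_zpowers _⟩
      rw [MulAction.Quotient.smul_coe, smul_eq_mul, eq_comm, QuotientGroup.eq, inv_inv] at h'
      simpa [mul_assoc] using h'
    rcases (inferInstance : H.normalCore.Normal).eq_bot_or_eq_top with h | h
    · rw [h, Subgroup.mem_bot] at hcore
      rw [hcore, orderOf_one] at hqG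
      norm_num at hqG
    · have := Subgroup.card_le_of_le (Subgroup.normalCore_le H)
      rw [h, Subgroup.card_top, hG.2, hH] at this
      omega
  have hr2 : r = 2 := by
    have hm : r % 5 = 2 := hmod.symm
    rcases (show r = 2 ∨ r = 7 ∨ r = 12 by omega) with h | h | h
    · exact h
    · rw [h] at hrd; norm_num at hrd
    · exact absurd h hrne
  have hCN : C ≤ N := by
    rw [hC, ← Small.centralizer_zpowers]
    exact Subgroup.centralizer_le_normalizer _
  have hle : H.relIndex C ≤ 2 := hr2 ▸ Subgroup.relIndex_le_of_le_right hCN (Subgroup.index_ne_zero_of_finite)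
  have hcard := Subgroup.card_mul_index (H.subgroupOf C)
  have h5 : Nat.card (H.subgroupOf C) = 5 := by
    rw [← hC5]
    exact Nat.card_congr
      { toFun := fun x => ⟨⟨(x : C), Subgroup.mem_subgroupOf.1 x.2⟩, Subgroup.mem_centralizer_singleton_iff.2
            (Subtype.ext (Subgroup.mem_centralizer_singleton_iff.1 x.1.2))⟩
        invFun := fun x => ⟨⟨((x : H) : G), Subgroup.mem_centralizer_singleton_iff.2
            (congrArg Subtype.val (Subgroup.mem_centralizer_singleton_iff.1 x.2))⟩, Subgroup.mem_subgroupOf.2 x.1.2⟩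
        left_inv := fun _ => rfl
        right_inv := fun _ => rfl }
  rw [h5, show (H.subgroupOf C).index = H.relIndex C from rfl] at hcard
  omega

/-- Some degree is divisible by 55 and some by 33. -/
theorem degrees_dvd : (∃ χ : IrrCharacter G, 55 ∣ cdeg χ) ∧ ∃ χ : IrrCharacter G, 33 ∣ cdeg χ := by
  classical
  haveI := hG.1
  haveI := Fintype.ofFinite H
  obtain ⟨E, ⟨M⟩⟩ := nonempty_twelve hG
  obtain ⟨qH, hqH⟩ := exists_prime_orderOf_dvd_card' (G := H) 5 (by rw [hH]; norm_num)
  obtain ⟨hC10, hconj⟩ := five_subgroup hG hH hHs hqH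
  set q : G := (qH : G) with hqdef
  have hq : orderOf q = 5 := by rw [hqdef, Subgroup.orderOf_coe, hqH]
  obtain ⟨da, db, dc, dd, dθ⟩ := degrees_twelve hG M
  choose w hw using fun χ : IrrCharacter G => MEleven.exists_int_value χ (g := q) fun k hk => hconj k fun h5 => by
    have hd : 5 ∣ Nat.card G := by rw [hG.2]; norm_num
    have := Nat.dvd_gcd h5 hd
    rw [hk.gcd_eq_one] at this
    omega
  have hcong : ∀ χ : IrrCharacter G, (5 : ℤ) ∣ w χ - (cdeg χ : ℤ) := fun χ =>
    MEleven.int_modEq_deg (p := 5) χ (k := 1) (by rw [hq, pow_one]) (hw χ)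
  have hfact : (Nat.card G).factorization 5 = 1 := by
    rw [hG.2, show (95040 : ℕ) = 5 ^ 1 * 19008 by norm_num, Nat.factorization_mul (by norm_num) (by norm_num),
      Nat.Prime.factorization_pow (by norm_num), Finsupp.add_apply, Finsupp.single_eq_same,
      Nat.factorization_eq_zero_of_not_dvd (by norm_num : ¬ 5 ∣ 19008)]
  have hzero : ∀ χ : IrrCharacter G, 5 ∣ cdeg χ → w χ = 0 := fun χ h => by
    have hd : (cdeg χ).factorization 5 = (Nat.card G).factorization 5 := by
      rw [hfact]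
      refine le_antisymm ?_ (((Fact.out : Nat.Prime 5).dvd_iff_one_le_factorization (Block.charDegree_pos χ).ne').1 h)
      rw [← hfact]
      exact (Nat.factorization_le_iff_dvd (Block.charDegree_pos χ).ne' (Nat.card_pos (α := G)).ne').2 (Block.charDegree_dvd_card χ) 5
    have := MEleven.apply_eq_zero_of_defectZero χ hd (g := q) (by rw [hq])
    rw [hw χ] at this
    exact_mod_cast this
  have hq1 : q ≠ 1 := fun e => by rw [e, orderOf_one] at hq; norm_num at hq
  set O := Finset.univ \ (E.S.X ∪ E.S.Y) with hO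
  -- sums over the two parts
  have hsplit : ∀ f : IrrCharacter G → ℤ, ∑ χ, f χ =
      ∑ χ ∈ O, f χ + (f (trivChar G) + (f M.a + (f M.b + (f M.c + f M.d))) + ∑ χ ∈ E.S.Y, f χ) := fun f => by
    rw [← M.sumX, ← Finset.sum_union E.S.disj, hO, Finset.sum_sdiff (Finset.subset_univ _)]
  have hreg : ¬ 11 ∣ orderOf q := by rw [hq]; norm_num
  have hYw : ∀ χ ∈ E.S.Y, w χ = w E.S.θ := fun χ h => by
    have := E.S.agree χ h q hreg
    rw [hw, hw] at this
    exact_mod_cast this
  have hYd : ∀ χ ∈ E.S.Y, cdeg χ = 16 := fun χ h => by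
    have := E.S.agree χ h 1 (by rw [orderOf_one]; norm_num)
    rw [apply_one, apply_one, Nat.cast_inj] at this
    rw [this, dθ]
  have htriv : w (trivChar G) = 1 := by
    have := hw (trivChar G)
    rw [show ((trivChar G : IrrCharacter G) : G → ℂ) q = 1 from rfl] at this
    exact_mod_cast this.symm
  have hone : cdeg (trivChar G) = 1 := Small.charDegree_one'
  have hwa : w M.a = 0 := hzero _ (by rw [da]; norm_num)
  have hwc : w M.c = 0 := hzero _ (by rw [dc]; norm_num)
  have hsq : ∑ χ, w χ ^ 2 = (Nat.card (centralizer ({q} : Set G)) : ℤ) := by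
    have h := MEleven.sum_column_normSq q
    rw [Finset.sum_congr rfl (g := fun χ => ((w χ ^ 2 : ℤ) : ℝ)) fun χ _ => by
      rw [hw, Complex.norm_intCast, sq_abs]; push_cast; rfl] at h
    exact_mod_cast h
  have hdeg : ∑ χ, (cdeg χ : ℤ) * w χ = 0 := by
    have h := MEleven.sum_column_degree (G := G) hq1
    rw [Finset.sum_congr rfl (g := fun χ => (((cdeg χ : ℤ) * w χ : ℤ) : ℂ)) fun χ _ => by
      rw [hw]; push_cast; rfl] at h
    exact_mod_cast h
  have hd2 : ∑ χ : IrrCharacter G, (cdeg χ : ℤ) ^ 2 = 95040 := by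
    have h := MEleven.sum_column_normSq (1 : G)
    have hc : centralizer ({(1 : G)} : Set G) = ⊤ :=
      top_le_iff.1 fun x _ => Subgroup.mem_centralizer_singleton_iff.2 (by rw [mul_one, one_mul])
    rw [hc, Nat.card_congr Subgroup.topEquiv.toEquiv, hG.2,
      Finset.sum_congr rfl (g := fun χ => (((cdeg χ : ℤ) ^ 2 : ℤ) : ℝ)) fun χ _ => by
        rw [apply_one, Complex.norm_natCast]; push_cast; rfl] at h
    exact_mod_cast h
  rw [hsplit] at hsq hdeg hd2
  rw [Finset.sum_congr (rfl : E.S.Y = E.S.Y) (g := fun _ => w E.S.θ ^ 2) (fun χ h => by rw [hYw χ h]), Finset.sum_const, E.S.card_Y,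
    htriv, hwa, hwc] at hsq
  rw [Finset.sum_congr (rfl : E.S.Y = E.S.Y) (g := fun _ => (16 : ℤ) * w E.S.θ) (fun χ h => by rw [hYw χ h, hYd χ h]; rfl),
    Finset.sum_const, E.S.card_Y, htriv, hwa, hwc, hone, da, db, dc, dd] at hdeg
  rw [Finset.sum_congr (rfl : E.S.Y = E.S.Y) (g := fun _ => (16 : ℤ) ^ 2) (fun χ h => by rw [hYd χ h]; rfl),
    Finset.sum_const, E.S.card_Y, hone, da, db, dc, dd] at hd2
  norm_num [-Nat.card_eq_fintype_card] at hsq hdeg hd2
  have hb5 := hcong M.b
  have hd5 := hcong M.d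
  have hθ5 := hcong E.S.θ
  rw [db] at hb5
  rw [dd] at hd5
  rw [dθ] at hθ5
  have hO0 : 0 ≤ ∑ χ ∈ O, w χ ^ 2 := Finset.sum_nonneg fun _ _ => sq_nonneg _
  have hC10' : (Nat.card (centralizer ({q} : Set G)) : ℤ) ≤ 10 := by exact_mod_cast hC10
  have key : ∀ m : ℤ, m ^ 2 ≤ 15 → -3 ≤ m ∧ m ≤ 3 := fun m h => ⟨by nlinarith, by nlinarith⟩
  have hvb : w M.b = -1 := by
    have := key (w M.b) (by nlinarith [sq_nonneg (w M.d), sq_nonneg (w E.S.θ)])
    push_cast at hb5
    omega
  have hvd : w M.d = -1 := by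
    have := key (w M.d) (by nlinarith [sq_nonneg (w M.b), sq_nonneg (w E.S.θ)])
    push_cast at hd5
    omega
  have hvθ : w E.S.θ = 1 := by
    have := key (w E.S.θ) (by nlinarith [sq_nonneg (w M.b), sq_nonneg (w M.d)])
    push_cast at hθ5
    omega
  rw [hvb, hvd, hvθ] at hsq hdeg
  norm_num [-Nat.card_eq_fintype_card] at hsq hdeg
  -- the characters outside have degree 11 times a divisor of 8640
  have hOmem : ∀ χ ∈ O, ∃ k, cdeg χ = 11 * k ∧ k ∣ 8640 ∧ k ≤ 21 := fun χ h => by
    simp only [hO, Finset.mem_sdiff, Finset.mem_union, not_or] at h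
    obtain ⟨k, hk⟩ := dvd_of_outside hG E h.2.1 h.2.2
    refine ⟨k, hk, ?_, ?_⟩
    · have := Block.charDegree_dvd_card χ
      rw [hk, hG.2, show (95040 : ℕ) = 11 * 8640 by norm_num] at this
      exact (Nat.mul_dvd_mul_iff_left (by norm_num)).1 this
    · have hle : (cdeg χ : ℤ) ^ 2 ≤ ∑ φ ∈ O, (cdeg φ : ℤ) ^ 2 :=
        Finset.single_le_sum (f := fun φ => (cdeg φ : ℤ) ^ 2) (fun _ _ => sq_nonneg _)
          (by simp only [hO, Finset.mem_sdiff, Finset.mem_union, not_or]; exact h)
      rw [hk] at hle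
      push_cast at hle
      nlinarith
  choose! k hk hk8640 hk21 using hOmem
  have hK : ∑ χ ∈ O, k χ * k χ = 450 := by
    have e : ∑ χ ∈ O, (cdeg χ : ℤ) ^ 2 = 121 * ((∑ χ ∈ O, k χ * k χ : ℕ) : ℤ) := by
      rw [Nat.cast_sum, Finset.mul_sum]
      exact Finset.sum_congr rfl fun χ h => by rw [hk χ h]; push_cast; ring
    omega
  have hS : ∑ χ ∈ O, (k χ : ℤ) * w χ = 15 := by
    have e : ∑ χ ∈ O, (cdeg χ : ℤ) * w χ = 11 * ∑ χ ∈ O, (k χ : ℤ) * w χ := by
      rw [Finset.mul_sum]
      exact Finset.sum_congr rfl fun χ h => by rw [hk χ h]; push_cast; ring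
    omega
  set B := O.filter fun χ => ¬ 5 ∣ k χ with hB
  set A := O.filter fun χ => 5 ∣ k χ with hA
  have hAw : ∀ χ ∈ A, w χ = 0 := fun χ h => by
    obtain ⟨hO', h5⟩ := Finset.mem_filter.1 h
    exact hzero χ (by rw [hk χ hO']; exact dvd_mul_of_dvd_right h5 11)
  have hsplit' : ∀ f : IrrCharacter G → ℤ, ∑ χ ∈ O, f χ = ∑ χ ∈ A, f χ + ∑ χ ∈ B, f χ := fun f =>
    (Finset.sum_filter_add_sum_filter_not O _ f).symm
  have hBs : ∑ χ ∈ B, (k χ : ℤ) * w χ = 15 := by
    rw [← hS, hsplit', Finset.sum_eq_zero (s := A) (fun χ h => by rw [hAw χ h, mul_zero]), zero_add]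
  have hBq : ((∑ χ ∈ B, (w χ).natAbs * (w χ).natAbs : ℕ) : ℤ) ≤ 5 := by
    have e : ((∑ χ ∈ B, (w χ).natAbs * (w χ).natAbs : ℕ) : ℤ) = ∑ χ ∈ O, w χ ^ 2 := by
      rw [hsplit', Finset.sum_eq_zero (s := A) (fun χ h => by rw [hAw χ h]; norm_num), zero_add, Nat.cast_sum]
      exact Finset.sum_congr rfl fun χ _ => by rw [Nat.cast_mul, Int.natCast_natAbs, abs_mul_abs_self, pow_two]
    omega
  have hBcong : ∀ χ ∈ B, (5 : ℤ) ∣ w χ - (k χ : ℤ) := fun χ h => by
    have h1 := hcong χ
    rw [hk χ (Finset.mem_filter.1 h).1] at h1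
    push_cast at h1
    omega
  have hB5 : ∀ χ ∈ B, ¬ (5 : ℤ) ∣ (k χ : ℤ) := fun χ h => by
    exact_mod_cast (Finset.mem_filter.1 h).2
  have hBne : ∑ χ ∈ B, k χ * k χ ≤ 450 := hK ▸ Finset.sum_le_sum_of_subset (Finset.filter_subset _ _)
  -- exactly five
  have hq5 : (∑ χ ∈ B, (w χ).natAbs * (w χ).natAbs) = 5 := by
    have hle : ∑ χ ∈ B, (w χ).natAbs * (w χ).natAbs ≤ 5 := by exact_mod_cast hBq
    have e : ((∑ χ ∈ B, (w χ).natAbs * (w χ).natAbs : ℕ) : ℤ) = ∑ χ ∈ O, w χ ^ 2 := by
      rw [hsplit', Finset.sum_eq_zero (s := A) (fun χ h => by rw [hAw χ h]; norm_num), zero_add, Nat.cast_sum]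
      exact Finset.sum_congr rfl fun χ _ => by rw [Nat.cast_mul, Int.natCast_natAbs, abs_mul_abs_self, pow_two]
    have h5C : 5 ∣ Nat.card (centralizer ({q} : Set G)) :=
      hq ▸ Subgroup.orderOf_dvd_natCard _ (Subgroup.mem_centralizer_singleton_iff.2 rfl)
    have hpos : 0 < Nat.card (centralizer ({q} : Set G)) := Nat.card_pos
    rcases (show Nat.card (centralizer ({q} : Set G)) = 5 ∨ Nat.card (centralizer ({q} : Set G)) = 10 by omega)
      with hc | hc <;> rw [hc] at hsq
    · exfalso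
      have h0 : ∀ χ ∈ B, (w χ).natAbs * (w χ).natAbs = 0 := Finset.sum_eq_zero_iff.1 (by push_cast at hsq; omega)
      rw [Finset.sum_eq_zero fun χ h => by
        have := h0 χ h
        simp only [mul_eq_zero, Int.natAbs_eq_zero, or_self] at this
        rw [this, mul_zero]] at hBs
      norm_num at hBs
    · push_cast at hsq; omega
  have hmem : ∀ (L : List ℕ), (∀ χ ∈ B, k χ ∈ L) →
      (∑ χ ∈ B, k χ * k χ, (15 : ℤ), 5) ∈ reach (opts L) 5 := fun L hL => by
    have h := mem_reach L k w B hL hB5 hBcong hBne (by omega)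
    rwa [hBs, hq5] at h
  have hkB : ∀ χ ∈ B, k χ ∈ ks ∧ (¬ 3 ∣ k χ → k χ ∈ ([1, 2, 4, 8, 16] : List ℕ)) := fun χ h =>
    ks_check (k χ) (List.mem_range.2 (Nat.lt_succ_of_le (hk21 χ (Finset.mem_filter.1 h).1)))
      (hk8640 χ (Finset.mem_filter.1 h).1) (Finset.mem_filter.1 h).2
  have hKsplit : ∑ χ ∈ A, k χ * k χ + ∑ χ ∈ B, k χ * k χ = 450 := by
    rw [← hK]; exact Finset.sum_filter_add_sum_filter_not O _ _
  refine ⟨?_, ?_⟩
  · by_contra hno
    push Not at hno
    have hA0 : A = ∅ := Finset.eq_empty_of_forall_notMem fun χ h => by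
      obtain ⟨hO', h5⟩ := Finset.mem_filter.1 h
      exact hno χ (by rw [hk χ hO']; exact Nat.mul_dvd_mul_left 11 h5)
    rw [hA0, Finset.sum_empty, zero_add] at hKsplit
    exact full_check _ (hmem ks fun χ h => (hkB χ h).1) rfl rfl hKsplit
  · by_contra hno
    push Not at hno
    have h3 : ∀ χ ∈ O, ¬ 3 ∣ k χ := fun χ h h3 => hno χ (by rw [hk χ h]; exact Nat.mul_dvd_mul_left 11 h3)
    have hA25 : 25 ∣ ∑ χ ∈ A, k χ * k χ := Finset.dvd_sum fun χ h => by
      obtain ⟨-, h5⟩ := Finset.mem_filter.1 h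
      exact Nat.mul_dvd_mul h5 h5
    have hB275 := no_three_check _ (hmem [1, 2, 4, 8, 16] fun χ h => (hkB χ h).2 (h3 χ (Finset.mem_filter.1 h).1))
      rfl rfl (by simp only; omega)
    simp only at hB275
    -- an involution centralising an element of order 5
    obtain ⟨z, hz, hzne⟩ := exists_five_involution hG M
    obtain ⟨hCz, ε, hε, hcol⟩ := other_value hG M hz hzne
    obtain ⟨⟨p, hp'⟩, hp⟩ := exists_prime_orderOf_dvd_card' (G := centralizer ({z} : Set G)) 5 (by
      rcases hCz with e | e <;> rw [e] <;> norm_num)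
    rw [Subgroup.orderOf_mk] at hp
    have hpz : Commute p z := Subgroup.mem_centralizer_singleton_iff.1 hp'
    choose v hv using fun χ : IrrCharacter G => involution_value (perfect hG) χ hz
    have hsz : ∑ χ ∈ O, v χ ^ 2 ≤ 130 := by
      have h := MEleven.sum_column_normSq z
      rw [Finset.sum_congr rfl (g := fun χ => ((v χ ^ 2 : ℤ) : ℝ)) fun χ _ => by
        rw [(hv χ).1, Complex.norm_intCast, sq_abs]; push_cast; rfl] at h
      have h' : ∑ χ, v χ ^ 2 = (Nat.card (centralizer ({z} : Set G)) : ℤ) := by exact_mod_cast h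
      have hval : ∀ χ m, (χ : IrrCharacter G) = χ → ((χ : IrrCharacter G) : G → ℂ) z = ((m : ℤ) : ℂ) → v χ = m :=
        fun χ m _ e => by
          have := (hv χ).1
          rw [e] at this
          exact_mod_cast this.symm
      have hzreg : ¬ 11 ∣ orderOf z := by rw [hz]; norm_num
      rw [hsplit, Finset.sum_congr (rfl : E.S.Y = E.S.Y) (g := fun _ => (4 * ε) ^ 2) (fun χ hχ => by
          rw [hval χ (4 * ε) rfl ((E.S.agree χ hχ z hzreg).trans hcol.vθ)]),
        Finset.sum_const, E.S.card_Y, hval _ 1 rfl (by rw [Int.cast_one]; rfl), hval _ _ rfl hcol.va,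
        hval _ _ rfl hcol.vb, hval _ _ rfl hcol.vc, hval _ _ rfl hcol.vd] at h'
      rcases hε with rfl | rfl <;> rcases hCz with e | e <;> rw [e] at h' <;> norm_num at h' <;> omega
    have hsmall : ∀ χ ∈ A, k χ = 5 ∨ k χ = 10 := fun χ h => by
      obtain ⟨hO', h5⟩ := Finset.mem_filter.1 h
      have h1 : k χ * k χ ≤ ∑ φ ∈ A, k φ * k φ := Finset.single_le_sum (f := fun φ => k φ * k φ) (fun _ _ => Nat.zero_le _) h
      have h2 : k χ ≤ 13 := by nlinarith
      have h0 : k χ ≠ 0 := fun e => by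
        have := Block.charDegree_pos χ
        rw [hk χ hO', e] at this
        omega
      omega
    have hAz : ∀ χ ∈ A, (k χ : ℤ) * k χ ≤ v χ ^ 2 := fun χ h => by
      obtain ⟨hO', h5⟩ := Finset.mem_filter.1 h
      obtain ⟨h4, -⟩ := (hv χ).2
      have h5v := five_dvd_value hG (χ := χ) (by rw [hk χ hO']; exact dvd_mul_of_dvd_right h5 11) hp hpz
        (by rw [hz]; norm_num) (hv χ).1
      rw [hk χ hO'] at h4
      push_cast at h4
      obtain ⟨j, hj⟩ := h5v
      rcases hsmall χ h with e | e <;> rw [e] at h4 ⊢ <;> push_cast at h4 ⊢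
      · have : j ≠ 0 := by intro e0; rw [e0] at hj; omega
        have : (1 : ℤ) ≤ j ^ 2 := by
          have := sq_pos_of_ne_zero this
          omega
        rw [hj]; nlinarith
      · have : j ≤ -2 ∨ 2 ≤ j := by omega
        rw [hj]; rcases this with h | h <;> nlinarith
    have h175 : ((∑ χ ∈ A, k χ * k χ : ℕ) : ℤ) ≤ ∑ χ ∈ O, v χ ^ 2 := by
      rw [Nat.cast_sum]
      refine le_trans (Finset.sum_le_sum fun χ h => ?_)
        (Finset.sum_le_sum_of_subset_of_nonneg (Finset.filter_subset _ _) fun _ _ _ => sq_nonneg _)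
      push_cast
      exact hAz χ h
    omega

end Cfsg.Lib.MTwelveGraph
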