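import Cfsg.Agent.Lib.MTwelveOrder.Eleven
import Cfsg.Agent.Lib.MTwelveOrder.Facts

/-!
Simple groups of order 11 m with m dividing 8640: in the principal 11-block the centraliser of a
Sylow 11-subgroup has no involution; nor, for few Sylow subgroups, another element of small order.
-/

set_option autoImplicit false
set_option linter.style.haveILetI false
set_option linter.unusedSectionVars false
set_option maxRecDepth 100000

namespace Cfsg.Lib.MTwelveGraph

open Cfsg Cfsg.Lib.Char Cfsg.Lib.Block Cfsg.Lib.MTwelveOrder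

universe u

/-- A simple group of order 11 times a divisor of 8640, not of prime order. -/
structure ElevenM (G : Type u) [Group G] [Fintype G] (m : ℕ) : Prop where
  simple : IsSimpleGroup G
  card : Nat.card G = 11 * m
  dvd : m ∣ 8640
  big : m ≠ 1

variable {G : Type u} [Group G] [Fintype G] {m : ℕ} (hS : ElevenM G m)

include hS

theorem ElevenM.not_cyclic : ¬ IsCyclic G := by
  haveI := hS.simple
  exact Small.not_isCyclic_of_card (by
    rw [hS.card]; exact Nat.not_prime_mul (by norm_num) hS.big)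

theorem ElevenM.perfect : commutator G = ⊤ := by
  haveI := hS.simple
  exact Small.commutator_eq_top hS.not_cyclic

theorem ElevenM.card_le : Nat.card G ≤ 95040 := by
  have := Nat.le_of_dvd (by norm_num) hS.dvd
  rw [hS.card]
  omega

theorem ElevenM.not_dvd : ¬ 11 ∣ m := fun h => by
  have := h.trans hS.dvd
  norm_num at this

theorem ElevenM.card_sylow [Fact (Nat.Prime 11)] (P : Sylow 11 G) : Nat.card (P : Subgroup G) = 11 := by
  rw [Small.card_sylow 1 m (by rw [pow_one]; exact hS.card) hS.not_dvd P, pow_one]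

section Shape

variable [Fact (Nat.Prime 11)] {P : Sylow 11 G} {e : ℕ} (S : Small.Shape P e)

/-- The values at a regular element centralising the Sylow subgroup are congruent to the degrees. -/
theorem value_congr {z : G} (hz : z ∈ Subgroup.centralizer ((P : Subgroup G) : Set G))
    (hreg : ¬ 11 ∣ orderOf z) {χ : IrrCharacter G} (hχ : χ ∈ S.Z) {m : ℤ} (hm : (χ : G → ℂ) z = m)
    (hint : ∀ ψ ∈ S.X, ∃ k : ℤ, (ψ : G → ℂ) z = k) : (11 : ℤ) ∣ (cdeg χ : ℤ) - m := by
  classical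
  haveI := hS.simple
  have hX : ∀ ψ ∈ S.X, ∀ k : ℤ, (ψ : G → ℂ) z = k → (11 : ℤ) ∣ S.σ ψ - k := by
    intro ψ hψ k hk
    haveI : Nontrivial (P : Subgroup G) := by
      rw [← Finite.one_lt_card_iff_nontrivial, S.card_P]; norm_num
    obtain ⟨⟨x, hx⟩, hx1'⟩ := exists_ne (1 : (P : Subgroup G))
    have hx1 : x ≠ 1 := fun h => hx1' (Subtype.ext h)
    have hxo : orderOf x = 11 ^ 1 := by
      rw [pow_one, ← Nat.card_zpowers, Small.zpowers_eq_of_prime_card S.card_P hx hx1, S.card_P]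
    have hc : Commute x z := Subgroup.mem_centralizer_iff.1 hz x hx
    have hR : pReg 11 (x * z) = z := by
      have h1 : x = pPt 11 (x * z) := eq_pPt rfl hc hxo hreg
      have h2 := pPt_mul_pReg (p := 11) (x * z)
      rw [← h1] at h2
      exact mul_left_cancel h2
    have h := charVal_sub_pReg_mem (p := 11) S.hM ψ.2.isCharacter (x * z)
    rw [hR, S.val ψ hψ x hx hx1 z hz hreg, hk] at h
    refine int_dvd_of_memLocalIdeal S.hM ?_
    push_cast
    exact h
  have hXd : ∀ ψ ∈ S.X, ∀ k : ℤ, (ψ : G → ℂ) z = k → (11 : ℤ) ∣ (cdeg ψ : ℤ) - k := by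
    intro ψ hψ k hk
    have h1 := hX ψ hψ k hk
    have h2 := Int.modEq_iff_dvd.1 (S.cong ψ hψ).symm
    rcases S.sign ψ (S.mem_Z.2 (Or.inr hψ)) with h | h <;> rw [h] at h1 h2
    · have := dvd_add h2 h1
      ring_nf at this ⊢
      omega
    · omega
  rcases S.mem_Z.1 hχ with rfl | hχX
  swap
  · exact hXd χ hχX m hm
  choose! k hk using hint
  have h := S.rel z hreg
  rw [S.Z_eq, Finset.sum_insert S.θ_notMem, hm,
    Finset.sum_congr rfl (g := fun ψ => ((S.σ ψ * k ψ : ℤ) : ℂ)) fun ψ hψ => by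
      rw [hk ψ hψ]; push_cast; rfl, ← Int.cast_sum, ← Int.cast_mul, ← Int.cast_add, Int.cast_eq_zero] at h
  have hcX : (e : ℤ) = ∑ ψ ∈ S.X, (1 : ℤ) := by
    rw [Finset.sum_const, nsmul_one]
    exact_mod_cast S.card_X.symm
  have h1 : (11 : ℤ) ∣ ∑ ψ ∈ S.X, S.σ ψ * k ψ - (e : ℤ) := by
    rw [hcX, ← Finset.sum_sub_distrib]
    refine Finset.dvd_sum fun ψ hψ => ?_
    have := hX ψ hψ _ (hk ψ hψ)
    rcases S.sign ψ (S.mem_Z.2 (Or.inr hψ)) with h | h <;> rw [h] at this ⊢ <;> push_cast <;> omega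
  have h2 := Int.modEq_iff_dvd.1 S.congθ.symm
  rcases S.sign S.θ (S.mem_Z.2 (Or.inl rfl)) with h' | h' <;> rw [h'] at h h2 <;> omega

/-- Two characters of degree 32 or 120, one of degree 32, and one of degree 45 leave no room at an
involution centralising the Sylow subgroup; similarly two of degree 32 and the exceptional pair of
degree 27. -/
theorem bound_false {z : G} (hz : z ∈ Subgroup.centralizer ((P : Subgroup G) : Set G))
    (hz2 : orderOf z = 2) {a b : IrrCharacter G} (ha : a ∈ S.Z) (hb : b ∈ S.Z) (hab : a ≠ b)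
    (hda : cdeg a = 32) (hdb : cdeg b = 32 ∨ cdeg b = 120)
    (h3 : (∃ c ∈ S.Z, cdeg c = 45) ∨ (cdeg b = 32 ∧ a ≠ S.θ ∧ b ≠ S.θ ∧ cdeg S.θ = 27 ∧ S.Y.card = 2)) :
    False := by
  classical
  haveI := hS.simple
  have hnc := hS.not_cyclic
  have hz1 : z ≠ 1 := fun h => by rw [h, orderOf_one] at hz2; norm_num at hz2
  have hreg : ¬ 11 ∣ orderOf z := by rw [hz2]; norm_num
  choose! v hv using fun χ (_ : χ ∈ (Finset.univ : Finset (IrrCharacter G))) => involution_value hS.perfect χ hz2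
  have hfact : ∀ χ ∈ S.Z, 2 ≤ cdeg χ → (4 : ℤ) ∣ (cdeg χ : ℤ) - v χ ∧ (11 : ℤ) ∣ (cdeg χ : ℤ) - v χ ∧
      (v χ).natAbs < cdeg χ ∧ (cdeg χ : ℤ) ∣ ((Subgroup.centralizer ({z} : Set G)).index : ℤ) * v χ := by
    intro χ hχ h2
    obtain ⟨h1, h4, hle⟩ := hv χ (Finset.mem_univ _)
    refine ⟨h4, value_congr hS S hz hreg hχ h1 (fun ψ _ => ⟨v ψ, (hv ψ (Finset.mem_univ _)).1⟩),
      natAbs_lt_deg hnc (fun e => ?_) hz1 h1 hle, deg_dvd_class_mul χ h1⟩
    rw [e] at h2
    have h1' : cdeg (trivChar G) = 1 := Small.charDegree_one'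
    omega
  have hCI := Subgroup.card_mul_index (Subgroup.centralizer ({z} : Set G))
  have hCI' : Nat.card (Subgroup.centralizer ({z} : Set G)) * (Subgroup.centralizer ({z} : Set G)).index ≤ 95040 :=
    hCI.le.trans hS.card_le
  set C := Nat.card (Subgroup.centralizer ({z} : Set G))
  set I := (Subgroup.centralizer ({z} : Set G)).index
  have hsum : ∀ T : Finset (IrrCharacter G), ∑ χ ∈ T, (v χ) ^ 2 ≤ (C : ℤ) := fun T => by
    have h := sum_sq_le T z
    rw [Finset.sum_congr rfl (g := fun χ => ((v χ ^ 2 : ℤ) : ℝ)) fun χ _ => by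
      rw [(hv χ (Finset.mem_univ _)).1, Complex.norm_intCast, sq_abs]; push_cast; rfl] at h
    exact_mod_cast h
  obtain ⟨a4, a11, alt, adv⟩ := hfact a ha (by omega)
  obtain ⟨b4, b11, blt, bdv⟩ := hfact b hb (by omega)
  have hva : v a = -12 := by omega
  have hvb : 144 ≤ (v b) ^ 2 := by
    have key : ∀ d w : ℤ, (d = 32 ∨ d = 120) → (4 : ℤ) ∣ d - w → (11 : ℤ) ∣ d - w → w ≤ -12 ∨ 12 ≤ w := by
      intro d w hd h4 h11
      rcases hd with rfl | rfl <;> omega
    rcases key (cdeg b : ℤ) (v b) (by exact_mod_cast hdb) b4 b11 with h | h <;> nlinarith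
  have h8 : 8 ∣ I := by
    rw [hva, hda] at adv
    omega
  rcases h3 with ⟨c, hc, hdc⟩ | ⟨hdb', haθ, hbθ, hdθ, hY⟩
  · obtain ⟨c4, c11, clt, cdv⟩ := hfact c hc (by omega)
    have hvc : v c = 1 ∨ v c = -43 := by omega
    have h45 : 45 ∣ I := by
      rw [hdc] at cdv
      rcases hvc with h | h <;> rw [h] at cdv
      · omega
      · have : (45 : ℤ) ∣ (I : ℤ) := (Int.isCoprime_iff_gcd_eq_one.2 (by decide : Int.gcd 45 (-43) = 1)).dvd_of_dvd_mul_right cdv
        omega
    have h360 : 360 ∣ I := Nat.Coprime.mul_dvd_of_dvd_of_dvd (by norm_num : Nat.Coprime 8 45) h8 h45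
    have hC : C ≤ 264 := by
      have h0 : 0 < I := Nat.pos_of_ne_zero Subgroup.index_ne_zero_of_finite
      have : 360 ≤ I := Nat.le_of_dvd h0 h360
      nlinarith
    have h := hsum {a, b, c}
    rw [Finset.sum_insert (by simp [hab]; intro e; rw [e] at hda; omega),
      Finset.sum_insert (by simp; intro e; rw [e] at hdb; omega), Finset.sum_singleton, hva] at h
    have : 1 ≤ (v c) ^ 2 := by rcases hvc with h | h <;> rw [h] <;> norm_num
    have hC' : (C : ℤ) ≤ 264 := by exact_mod_cast hC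
    linarith
  · obtain ⟨θ4, θ11, θlt, θdv⟩ := hfact S.θ (S.mem_Z.2 (Or.inl rfl)) (by omega)
    rw [hdθ] at θ4 θ11 θlt θdv
    have hvθ : v S.θ = -17 := by omega
    rw [hvθ] at θdv
    have h27 : 27 ∣ I := by
      have : (27 : ℤ) ∣ (I : ℤ) := (Int.isCoprime_iff_gcd_eq_one.2 (by decide : Int.gcd 27 (-17) = 1)).dvd_of_dvd_mul_right θdv
      omega
    have h216 : 216 ∣ I := Nat.Coprime.mul_dvd_of_dvd_of_dvd (by norm_num : Nat.Coprime 8 27) h8 h27
    have hC : C ≤ 440 := by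
      have h0 : 0 < I := Nat.pos_of_ne_zero Subgroup.index_ne_zero_of_finite
      have : 216 ≤ I := Nat.le_of_dvd h0 h216
      nlinarith
    have hYv : ∀ ψ ∈ S.Y, v ψ = -17 := fun ψ hψ => by
      have := S.agree ψ hψ z hreg
      rw [(hv ψ (Finset.mem_univ _)).1, (hv S.θ (Finset.mem_univ _)).1, Int.cast_inj, hvθ] at this
      exact this
    have hnY : ∀ χ ∈ S.Z, χ ≠ S.θ → χ ∉ S.Y := fun χ hχ hne =>
      Finset.disjoint_left.1 S.disj ((S.mem_Z.1 hχ).resolve_left hne)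
    have hdj : Disjoint ({a, b} : Finset (IrrCharacter G)) S.Y := by
      simp only [Finset.disjoint_insert_left, Finset.disjoint_singleton_left]
      exact ⟨hnY a ha haθ, hnY b hb hbθ⟩
    have h := hsum ({a, b} ∪ S.Y)
    rw [Finset.sum_union hdj, Finset.sum_insert (by simp [hab]), Finset.sum_singleton, hva,
      Finset.sum_congr rfl (fun ψ hψ => by rw [hYv ψ hψ] : ∀ ψ ∈ S.Y, v ψ ^ 2 = (-17 : ℤ) ^ 2),
      Finset.sum_const, hY] at h
    have hC' : (C : ℤ) ≤ 440 := by exact_mod_cast hC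
    norm_num at h
    linarith

theorem signed_X {χ : IrrCharacter G} (hχ : χ ∈ S.Z) (hc : (11 : ℤ) ∣ S.σ χ * (cdeg χ : ℤ) - 1)
    (hbig : 22 ≤ cdeg χ) : S.σ χ * (cdeg χ : ℤ) ∈ ([-32, 45, -54, -120, 144] : List ℤ) := by
  refine x_cands (cdeg χ) (List.mem_range.2 ?_) _ ?_ ((S.deg_dvd hS.card hχ).trans hS.dvd) hbig hc
  · have h := MEleven.sum_sq_deg_le ({χ} : Finset (IrrCharacter G))
    rw [Finset.sum_singleton] at h
    have h := h.trans hS.card_le
    by_contra hn
    have := Nat.pow_le_pow_left (not_lt.1 hn) 2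
    exact absurd (this.trans h) (by norm_num)
  · rcases S.sign χ hχ with h | h <;> simp [h]

end Shape

variable [Fact (Nat.Prime 11)] {P : Sylow 11 G}

/-- No involution centralises the Sylow subgroup when the automizer has order 5. -/
theorem five_even_false (S : Small.Shape P 5) {z : G}
    (hz : z ∈ Subgroup.centralizer ((P : Subgroup G) : Set G)) (hz2 : orderOf z = 2)
    (hbig : ∀ χ ∈ S.Z, χ ≠ Small.one' G → 22 ≤ cdeg χ) : False := by
  classical
  haveI := hS.simple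
  have h1 := S.one_mem_X (by norm_num)
  have hθ1 := S.θ_ne_one (by norm_num)
  have hc4 : (S.X.erase (Small.one' G)).toList.length = 4 := by
    rw [Finset.length_toList, Finset.card_erase_of_mem h1, S.card_X]
  obtain ⟨a, b, c', d, hl⟩ : ∃ a b c' d, (S.X.erase (Small.one' G)).toList = [a, b, c', d] := by
    match h : (S.X.erase (Small.one' G)).toList, hc4 with
    | [a, b, c', d], _ => exact ⟨a, b, c', d, rfl⟩
  have hnd' := (S.X.erase (Small.one' G)).nodup_toList
  rw [hl] at hnd'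
  have hmem : ∀ x ∈ [a, b, c', d], x ∈ S.X ∧ x ≠ Small.one' G := fun x hx => by
    rw [← hl, Finset.mem_toList, Finset.mem_erase] at hx
    exact ⟨hx.2, hx.1⟩
  have hval : ∀ x ∈ [a, b, c', d], S.σ x * (cdeg x : ℤ) ∈ ([-32, 45, -54, -120, 144] : List ℤ) := fun x hx =>
    signed_X hS S (S.mem_Z.2 (Or.inr (hmem x hx).1)) (Int.modEq_iff_dvd.1 (S.cong x (hmem x hx).1).symm)
      (hbig x (S.mem_Z.2 (Or.inr (hmem x hx).1)) (hmem x hx).2)
  have hZθ : S.θ ∈ S.Z := S.mem_Z.2 (Or.inl rfl)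
  have hsq' := S.sum_sq
  have hrel := S.rel_deg
  have hsumX : ∀ f : IrrCharacter G → ℤ, ∑ χ ∈ S.X, f χ = f (Small.one' G) + (f a + f b + f c' + f d) := by
    intro f
    rw [← Finset.add_sum_erase _ _ h1, ← Finset.sum_map_toList, hl]
    simp [add_assoc]
  rw [S.Z_eq, Finset.sum_insert S.θ_notMem, hsumX, S.sign_one, Small.charDegree_one'] at hrel
  have hsq2 : (∑ χ ∈ S.X, ((charDegree (χ : G → ℂ) : ℤ)) ^ 2) + 2 * (charDegree (S.θ : G → ℂ) : ℤ) ^ 2 ≤ 95040 := by
    have hsq' := hsq'.trans hS.card_le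
    norm_num at hsq'
    exact_mod_cast hsq'
  rw [hsumX, Small.charDegree_one'] at hsq2
  have hθc : S.σ S.θ * (cdeg S.θ : ℤ) ∈
      ([-27, -60, 72, 160, 192, 270, -192, -160, -72, 60, 27, -270] : List ℤ) := by
    refine theta_cands (cdeg S.θ) (List.mem_range.2 ?_) _ ?_ ((S.deg_dvd hS.card hZθ).trans hS.dvd)
      (hbig _ hZθ hθ1) ?_
    · by_contra hn
      have e2 := Nat.pow_le_pow_left (not_lt.1 hn) 2
      have hsq' := hsq'.trans hS.card_le
      norm_num at hsq'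
      omega
    · rcases S.sign S.θ hZθ with h | h <;> simp [h]
    · have := Int.modEq_iff_dvd.1 S.congθ.symm
      rwa [sub_neg_eq_add] at this
  have hsqσ : ∀ x ∈ S.Z, S.σ x * (cdeg x : ℤ) * (S.σ x * (cdeg x : ℤ)) = (cdeg x : ℤ) ^ 2 := fun x hx => by
    rcases S.sign x hx with h | h <;> rw [h] <;> ring
  have hZx : ∀ x ∈ [a, b, c', d], x ∈ S.Z := fun x hx => S.mem_Z.2 (Or.inr (hmem x hx).1)
  obtain ⟨h32, hrest⟩ := five_cands _ (hval a (by simp)) _ (hval b (by simp)) _ (hval c' (by simp))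
    _ (hval d (by simp)) _ hθc (by
      have := Int.modEq_iff_dvd.1 S.congθ.symm
      rwa [sub_neg_eq_add] at this)
    (by push_cast at hrel; linarith)
    (by rw [hsqσ _ (hZx a (by simp)), hsqσ _ (hZx b (by simp)), hsqσ _ (hZx c' (by simp)),
          hsqσ _ (hZx d (by simp)), hsqσ _ hZθ]
        push_cast at hsq2; linarith)
  have hget : ∀ k : ℤ, k ∈ [a, b, c', d].map (fun x => S.σ x * (cdeg x : ℤ)) →
      ∃ x ∈ [a, b, c', d], S.σ x * (cdeg x : ℤ) = k := fun k hk => by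
    obtain ⟨x, hx, h⟩ := List.mem_map.1 hk
    exact ⟨x, hx, h⟩
  have habs : ∀ x ∈ S.Z, ∀ k : ℤ, S.σ x * (cdeg x : ℤ) = k → cdeg x = k.natAbs := fun x hx k hk => by
    rw [← hk]
    rcases S.sign x hx with h | h <;> rw [h] <;> simp
  have hne : ∀ x ∈ [a, b, c', d], x ≠ S.θ := fun x hx e => S.θ_notMem (e ▸ (hmem x hx).1)
  obtain ⟨p1, hp1, hk1⟩ := hget (-32) h32
  have hd1 : cdeg p1 = 32 := habs _ (hZx p1 hp1) _ hk1
  have htwo : 2 ≤ [S.σ a * (cdeg a : ℤ), S.σ b * (cdeg b : ℤ), S.σ c' * (cdeg c' : ℤ), S.σ d * (cdeg d : ℤ)].count (-32) →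
      ∃ p2 ∈ [a, b, c', d], p2 ≠ p1 ∧ cdeg p2 = 32 := fun h => by
    by_contra hno
    push Not at hno
    have hle : ([a, b, c', d].map (fun x => S.σ x * (cdeg x : ℤ))).count (-32) ≤ 1 := by
      rw [List.count_eq_countP, List.countP_map]
      refine le_trans (List.countP_mono_left fun x hx hx32 => ?_) (List.nodup_iff_count_le_one.1 hnd' p1)
      simp only [Function.comp_apply, beq_iff_eq] at hx32 ⊢
      by_contra hx1
      exact hno x hx hx1 (habs _ (hZx x hx) _ hx32)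
    simp only [List.map_cons, List.map_nil] at hle
    omega
  rcases hrest with ⟨h45, h2⟩ | ⟨h2, ht⟩
  · obtain ⟨p3, hp3, hk3⟩ := hget 45 h45
    rcases h2 with h2 | h2
    · obtain ⟨p2, hp2, hne2, hd2⟩ := htwo h2
      exact bound_false hS S hz hz2 (hZx p1 hp1) (hZx p2 hp2) hne2.symm hd1 (Or.inl hd2)
        (Or.inl ⟨p3, hZx p3 hp3, habs _ (hZx p3 hp3) _ hk3⟩)
    · obtain ⟨p2, hp2, hk2⟩ := hget (-120) h2
      have hd2 : cdeg p2 = 120 := habs _ (hZx p2 hp2) _ hk2
      exact bound_false hS S hz hz2 (hZx p1 hp1) (hZx p2 hp2) (fun e => by rw [e] at hd1; omega) hd1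
        (Or.inr hd2) (Or.inl ⟨p3, hZx p3 hp3, habs _ (hZx p3 hp3) _ hk3⟩)
  · obtain ⟨p2, hp2, hne2, hd2⟩ := htwo h2
    exact bound_false hS S hz hz2 (hZx p1 hp1) (hZx p2 hp2) hne2.symm hd1 (Or.inl hd2)
      (Or.inr ⟨hd2, hne p1 hp1, hne p2 hp2, habs _ hZθ _ ht, by rw [S.card_Y]⟩)

/-- No involution centralises the Sylow subgroup when the automizer has order 10. -/
theorem ten_even_false (S : Small.Shape P 10) {z : G}
    (hz : z ∈ Subgroup.centralizer ((P : Subgroup G) : Set G)) (hz2 : orderOf z = 2)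
    (hbig : ∀ χ ∈ S.Z, χ ≠ Small.one' G → 22 ≤ cdeg χ) : False := by
  classical
  haveI := hS.simple
  set T := S.Z.erase (Small.one' G) with hT
  have hval : ∀ x ∈ T, S.σ x * (cdeg x : ℤ) ∈ ([-32, 45, -54, -120, 144] : List ℤ) := fun x hx => by
    obtain ⟨hne, hxZ⟩ := Finset.mem_erase.1 hx
    exact signed_X hS S hxZ (Int.modEq_iff_dvd.1 (S.cong_all (by norm_num) hxZ).symm)
      (hbig x hxZ hne)
  have hrel := S.rel_deg
  rw [← Finset.add_sum_erase _ _ S.one_mem, S.sign_one, Small.charDegree_one', ← hT] at hrel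
  set A := T.filter fun x => S.σ x * (cdeg x : ℤ) = -32 with hA
  have h3 : (3 : ℤ) ∣ ∑ x ∈ T, S.σ x * (cdeg x : ℤ) + 32 * A.card := by
    rw [hA, Finset.card_filter, Nat.cast_sum, Finset.mul_sum, ← Finset.sum_add_distrib]
    refine Finset.dvd_sum fun x hx => ?_
    have := hval x hx
    simp only [List.mem_cons, List.not_mem_nil, or_false] at this
    rcases this with h | h | h | h | h <;> rw [h] <;> norm_num
  have hA2 : 2 ≤ A.card := by omega
  obtain ⟨p1, hp1, p2, hp2, h12⟩ := Finset.one_lt_card.1 hA2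
  obtain ⟨p3, hp3, hk3⟩ : ∃ x ∈ T, S.σ x * (cdeg x : ℤ) = 45 := by
    by_contra hno
    push Not at hno
    have h2 : (2 : ℤ) ∣ ∑ x ∈ T, S.σ x * (cdeg x : ℤ) := Finset.dvd_sum fun x hx => by
      have := hval x hx
      have := hno x hx
      simp only [List.mem_cons, List.not_mem_nil, or_false] at *
      omega
    omega
  have hZT : ∀ x ∈ T, x ∈ S.Z := fun x hx => Finset.mem_of_mem_erase hx
  have habs : ∀ x ∈ T, ∀ k : ℤ, S.σ x * (cdeg x : ℤ) = k → cdeg x = k.natAbs := fun x hx k hk => by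
    rw [← hk]
    rcases S.sign x (hZT x hx) with h | h <;> rw [h] <;> simp
  obtain ⟨hp1T, hk1⟩ := Finset.mem_filter.1 hp1
  obtain ⟨hp2T, hk2⟩ := Finset.mem_filter.1 hp2
  exact bound_false hS S hz hz2 (hZT _ hp1T) (hZT _ hp2T) h12 (habs _ hp1T _ hk1)
    (Or.inl (habs _ hp2T _ hk2)) (Or.inl ⟨p3, hZT _ hp3, habs _ hp3 _ hk3⟩)

end Cfsg.Lib.MTwelveGraph
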