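import Mathlib
import Cfsg.Agent.Lib.Coprime.Action
import Cfsg.Agent.Lib.Char.Ito
import Cfsg.Agent.Lib.Char.Formulas

/-!
In a group of order 95040 with a degree divisible by 11 the elements of order 11 generate a perfect
central extension of a simple group.
-/

set_option autoImplicit false
set_option linter.style.haveILetI false
set_option linter.unusedSectionVars false

namespace Cfsg.Lib.MTwelveGraph

open Cfsg Cfsg.Lib.Char
open Subgroup (centralizer zpowers normalizer center)

universe u

local instance fact_eleven_radical : Fact (Nat.Prime 11) := ⟨by norm_num⟩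

/-- A perfect normal subgroup with a central subgroup whose factor is simple of order divisible by 11. -/
structure Layer (G : Type u) [Group G] where
  K : Subgroup G
  normal : K.Normal
  Z : Subgroup K
  [normalZ : Z.Normal]
  perfect : commutator K = ⊤
  central : Z ≤ center K
  eleven : 11 ∣ Nat.card K
  not_dvd : ¬ 11 ∣ Nat.card Z
  simple : IsSimpleGroup (K ⧸ Z)
  noncomm : ¬ IsMulCommutative (K ⧸ Z)

attribute [instance] Layer.normalZ

section Radical

variable {G : Type u} [Group G] [Finite G]

theorem not_dvd_sup {A B : Subgroup G} [B.Normal] (hA : ¬ 11 ∣ Nat.card A) (hB : ¬ 11 ∣ Nat.card B) :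
    ¬ 11 ∣ Nat.card ↥(A ⊔ B) := by
  have h := Subgroup.card_mul_index (B.subgroupOf (A ⊔ B))
  rw [Nat.card_congr (Subgroup.subgroupOfEquivOfLe le_sup_right).toEquiv,
    show (B.subgroupOf (A ⊔ B)).index = B.relIndex (A ⊔ B) from rfl, Subgroup.relIndex_sup_right] at h
  intro hd
  rw [← h] at hd
  rcases (Fact.out : Nat.Prime 11).dvd_mul.1 hd with e | e
  · exact hB e
  · exact hA (e.trans (Subgroup.relIndex_dvd_card B A))

variable (G) in
/-- The largest normal subgroup of order prime to 11. -/
theorem exists_greatest : ∃ R : Subgroup G, R.Normal ∧ ¬ 11 ∣ Nat.card R ∧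
    ∀ N : Subgroup G, N.Normal → ¬ 11 ∣ Nat.card N → N ≤ R := by
  obtain ⟨R, -, ⟨hn, hd⟩, hmax⟩ := (Set.toFinite {R : Subgroup G | R.Normal ∧ ¬ 11 ∣ Nat.card R}).exists_le_maximal
    (a := ⊥) ⟨inferInstance, by rw [Subgroup.card_bot]; norm_num⟩
  refine ⟨R, hn, hd, fun N hN hNd => ?_⟩
  haveI := hn
  haveI := hN
  exact le_sup_right.trans (hmax ⟨Subgroup.sup_normal R N, not_dvd_sup hd hNd⟩ le_sup_left)

theorem dvd_small_check : ∀ q ∈ ([2, 3, 5] : List ℕ), ∀ k ∈ List.range 7, ∀ j ∈ List.range (k + 1),
    q ^ k ∣ 8640 → q ^ j % 11 = q ^ k % 11 → j = k := by decide +kernel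

/-- An element of order 11 fixes an invariant subgroup of small prime power order. -/
theorem le_centralizer_of_pgroup {x : G} (hx : orderOf x = 11) {Q : Subgroup G} {q k : ℕ} (hq : q.Prime)
    (hk : Nat.card Q = q ^ k) (hd : q ^ k ∣ 8640) (hxQ : x ∈ normalizer (Q : Set G)) :
    Q ≤ centralizer ({x} : Set G) := by
  classical
  haveI := Fintype.ofFinite G
  let σ : Equiv.Perm Q := Equiv.subtypeEquiv (MulAut.conj x).toEquiv fun a => Subgroup.mem_normalizer_iff.1 hxQ a
  have hpow : ∀ (n : ℕ) (a : Q), (((σ ^ n) a : Q) : G) = x ^ n * a * (x ^ n)⁻¹ := by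
    intro n a
    induction n with
    | zero => simp
    | succ n ih =>
      rw [pow_succ', Equiv.Perm.mul_apply]
      show x * (((σ ^ n) a : Q) : G) * x⁻¹ = _
      rw [ih, pow_succ', mul_inv_rev]
      group
  have hσ : σ ^ 11 ^ 1 = 1 := Equiv.ext fun a => Subtype.ext (by
    rw [pow_one, hpow, ← hx, pow_orderOf_eq_one]; simp)
  have hmod := Equiv.Perm.card_compl_support_modEq (p := 11) hσ
  have hfix : Nat.card ↥(Q ⊓ centralizer ({x} : Set G)) = σ.supportᶜ.card := by
    rw [← Nat.card_eq_finsetCard]
    refine Nat.card_congr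
      { toFun := fun a => ⟨⟨(a : G), a.2.1⟩, ?_⟩
        invFun := fun a => ⟨((a : Q) : G), (a : Q).2, ?_⟩
        left_inv := fun _ => rfl
        right_inv := fun _ => rfl }
    · rw [Finset.mem_compl, Equiv.Perm.notMem_support]
      refine Subtype.ext ?_
      show x * (a : G) * x⁻¹ = a
      rw [← Subgroup.mem_centralizer_singleton_iff.1 a.2.2, mul_inv_cancel_right]
    · have h := Finset.mem_compl.1 a.2
      rw [Equiv.Perm.notMem_support] at h
      have h' : x * ((a : Q) : G) * x⁻¹ = ((a : Q) : G) := congrArg Subtype.val h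
      exact Subgroup.mem_centralizer_singleton_iff.2 (mul_inv_eq_iff_eq_mul.1 h').symm
  rw [← hfix, ← Nat.card_eq_fintype_card, hk] at hmod
  obtain ⟨j, hj, hjc⟩ := (Nat.dvd_prime_pow hq).1 (hk ▸ Subgroup.card_dvd_of_le (inf_le_left : Q ⊓ centralizer ({x} : Set G) ≤ Q))
  rw [hjc] at hmod
  by_cases hk0 : k = 0
  · subst hk0
    rw [pow_zero] at hk
    rw [Subgroup.card_eq_one.1 hk]
    exact bot_le
  have hq5 : q ∈ ([2, 3, 5] : List ℕ) := by
    have h1 : q ∣ 2 ^ 6 * (3 ^ 3 * 5) := (dvd_pow_self q hk0).trans (hd.trans (by norm_num))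
    rcases hq.dvd_mul.1 h1 with h | h
    · simp [(Nat.prime_dvd_prime_iff_eq hq Nat.prime_two).1 (hq.dvd_of_dvd_pow h)]
    rcases hq.dvd_mul.1 h with h | h
    · simp [(Nat.prime_dvd_prime_iff_eq hq Nat.prime_three).1 (hq.dvd_of_dvd_pow h)]
    · simp [(Nat.prime_dvd_prime_iff_eq hq (by norm_num : Nat.Prime 5)).1 h]
  have hk7 : k < 7 := by
    by_contra hn
    have h1 : q ^ 7 ∣ 8640 := (pow_dvd_pow q (not_lt.1 hn)).trans hd
    simp only [List.mem_cons, List.not_mem_nil, or_false] at hq5
    rcases hq5 with rfl | rfl | rfl <;> norm_num at h1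
  have hjk := dvd_small_check q hq5 k (List.mem_range.2 hk7) j (List.mem_range.2 (by omega)) hd hmod
  subst hjk
  exact inf_eq_left.1 (Subgroup.eq_of_le_of_card_ge inf_le_left (le_of_eq (by rw [hk, hjc])))

variable (hcard : Nat.card G = 95040)

include hcard

/-- The elements of order 11 centralise a normal subgroup of order prime to 11. -/
theorem commute_radical {R : Subgroup G} [hR : R.Normal] (hd : ¬ 11 ∣ Nat.card R) {x : G} (hx : orderOf x = 11) :
    R ≤ centralizer ({x} : Set G) := by
  have hdvd : Nat.card R ∣ 8640 := by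
    have h := Subgroup.card_subgroup_dvd_card R
    rw [hcard, show (95040 : ℕ) = 11 * 8640 by norm_num] at h
    exact ((Fact.out : Nat.Prime 11).coprime_iff_not_dvd.2 hd).symm.dvd_of_dvd_mul_left h
  have hA : Nat.card (zpowers x) = 11 := by rw [Nat.card_zpowers, hx]
  refine inf_eq_left.1 (Subgroup.eq_of_le_of_card_ge inf_le_left (Nat.le_of_dvd Nat.card_pos ?_))
  refine (Nat.factorization_prime_le_iff_dvd Nat.card_pos.ne' Nat.card_pos.ne').1 fun q hq => ?_
  haveI := Fact.mk hq
  obtain ⟨Q, hQ⟩ := Coprime.exists_invariant_sylow (A := zpowers x) (G := R)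
    (by rw [Subgroup.normalizer_eq_top_iff.2 hR]; exact le_top)
    (by rw [hA]; exact (Fact.out : Nat.Prime 11).coprime_iff_not_dvd.2 hd)
    (Or.inl (Group.isSolvable_of_comm fun a b => (IsCyclic.commGroup (α := zpowers x)).mul_comm a b)) q
  have hQc : Nat.card ((Q : Subgroup R).map R.subtype) = q ^ (Nat.card R).factorization q := by
    rw [Subgroup.card_map_of_injective R.subtype_injective]
    exact Q.card_eq_multiplicity
  have hle := le_centralizer_of_pgroup hx hq hQc ((Nat.ordProj_dvd _ _).trans hdvd)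
    (hQ (Subgroup.mem_zpowers x))
  have := Subgroup.card_dvd_of_le (le_inf (Subgroup.map_subtype_le (Q : Subgroup R)) hle)
  rw [hQc] at this
  exact (hq.pow_dvd_iff_le_factorization Nat.card_pos.ne').1 this

end Radical

section Layer

variable {G : Type u} [Group G] [Fintype G]

theorem exists_layer (hcard : Nat.card G = 95040)
    (h11 : ∃ χ : IrrCharacter G, 11 ∣ charDegree (χ : G → ℂ)) : Nonempty (Layer G) := by
  classical
  obtain ⟨R, hR, hRd, hRmax⟩ := exists_greatest G
  haveI := hR
  set K : Subgroup G := Subgroup.closure {x | orderOf x = 11} with hKdef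
  have hKn : K.Normal := ⟨fun n hn g => by
    induction hn using Subgroup.closure_induction with
    | mem a ha =>
      refine Subgroup.subset_closure ?_
      show orderOf (g * a * g⁻¹) = 11
      rw [← MulAut.conj_apply, MulEquiv.orderOf_eq]
      exact ha
    | one => simpa using one_mem _
    | mul a b _ _ iha ihb =>
      rw [show g * (a * b) * g⁻¹ = (g * a * g⁻¹) * (g * b * g⁻¹) by group]
      exact mul_mem iha ihb
    | inv a _ ih =>
      rw [show g * a⁻¹ * g⁻¹ = (g * a * g⁻¹)⁻¹ by group]
      exact inv_mem ih⟩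
  haveI := hKn
  obtain ⟨x, hx⟩ := exists_prime_orderOf_dvd_card' (G := G) 11 (by rw [hcard]; norm_num)
  have hxK : x ∈ K := Subgroup.subset_closure hx
  have hK11 : 11 ∣ Nat.card K := by
    rw [← hx, ← Subgroup.orderOf_mk x hxK]
    exact orderOf_dvd_natCard _
  have hsq : ∀ H : Subgroup G, ¬ 11 ^ 2 ∣ Nat.card H := fun H h => by
    have := h.trans (Subgroup.card_subgroup_dvd_card H)
    rw [hcard] at this
    norm_num at this
  -- a normal subgroup of the layer with order divisible by 11 is everything
  have hfull : ∀ L : Subgroup K, L.Normal → 11 ∣ Nat.card L → L = ⊤ := by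
    intro L hL hd
    obtain ⟨⟨y, hyL⟩, hy⟩ := exists_prime_orderOf_dvd_card' (G := L) 11 hd
    rw [Subgroup.orderOf_mk] at hy
    obtain ⟨P, hP⟩ := (IsPGroup.of_card (n := 1) (by rw [Nat.card_zpowers, hy, pow_one]) :
      IsPGroup 11 (zpowers y)).exists_le_sylow
    have hPc : Nat.card (P : Subgroup K) = 11 := by
      obtain ⟨k, hk⟩ := IsPGroup.iff_card.1 P.isPGroup'
      have h1 : 11 ∣ Nat.card (P : Subgroup K) := by
        have := Subgroup.card_dvd_of_le hP
        rwa [Nat.card_zpowers, hy] at this
      have h2 : k ≤ 1 := by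
        by_contra hn
        exact hsq K ((pow_dvd_pow 11 (not_le.1 hn)).trans (hk ▸ Subgroup.card_subgroup_dvd_card _))
      interval_cases k
      · rw [hk] at h1; norm_num at h1
      · rw [hk, pow_one]
    have hPL : (P : Subgroup K) ≤ L := by
      rw [← Subgroup.eq_of_le_of_card_ge hP (by rw [hPc, Nat.card_zpowers, hy])]
      exact Subgroup.zpowers_le.2 hyL
    rw [eq_top_iff]
    have hgen : Subgroup.closure {z : K | orderOf z = 11} = ⊤ := by
      refine Subgroup.map_injective K.subtype_injective ?_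
      rw [MonoidHom.map_closure, ← MonoidHom.range_eq_map, Subgroup.range_subtype, hKdef]
      congr 1
      ext a
      constructor
      · rintro ⟨b, hb, rfl⟩
        exact (Subgroup.orderOf_coe b).trans hb
      · intro ha
        exact ⟨⟨a, Subgroup.subset_closure ha⟩, (Subgroup.orderOf_coe _).symm.trans ha, rfl⟩
    rw [← hgen, Subgroup.closure_le]
    intro z hz
    obtain ⟨Q, hQ⟩ := (IsPGroup.of_card (n := 1) (by rw [Nat.card_zpowers, hz, pow_one]) :
      IsPGroup 11 (zpowers z)).exists_le_sylow
    obtain ⟨g, rfl⟩ := MulAction.exists_smul_eq K P Q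
    have := hQ (Subgroup.mem_zpowers z)
    rw [Sylow.coe_subgroup_smul] at this
    obtain ⟨w, hw, hwz⟩ := this
    rw [← hwz]
    exact hL.conj_mem w (hPL hw) g
  -- the normal subgroups of order prime to 11 of the layer lie in the radical
  obtain ⟨M, hM, hMd, hMmax⟩ := exists_greatest K
  haveI := hM
  have hMn : (M.map K.subtype).Normal := ⟨fun n hn g => by
    obtain ⟨a, ha, rfl⟩ := hn
    let e : K ≃* K := MulAut.conjNormal g
    have h := hMmax (M.map e.toMonoidHom) (hM.map _ e.surjective)
      (by rwa [Subgroup.card_map_of_injective (f := e.toMonoidHom) e.injective])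
    refine ⟨e a, h ⟨a, ha, rfl⟩, ?_⟩
    exact MulAut.conjNormal_apply g a⟩
  have hMR : ∀ L : Subgroup K, L.Normal → ¬ 11 ∣ Nat.card L → L ≤ R.subgroupOf K := by
    intro L hL hd a ha
    rw [Subgroup.mem_subgroupOf]
    refine hRmax _ hMn ?_ (Subgroup.mem_map_of_mem K.subtype (hMmax L hL hd ha))
    rwa [Subgroup.card_map_of_injective K.subtype_injective]
  set Z := R.subgroupOf K with hZdef
  have hZd : ¬ 11 ∣ Nat.card Z := fun h => hRd (h.trans (by
    rw [← Subgroup.card_map_of_injective (f := K.subtype) (K := Z) K.subtype_injective]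
    exact Subgroup.card_dvd_of_le (Subgroup.map_le_iff_le_comap.2 le_rfl)))
  have hKR : K ≤ centralizer (R : Set G) := by
    rw [hKdef, Subgroup.closure_le]
    intro y hy
    rw [SetLike.mem_coe, Subgroup.mem_centralizer_iff]
    intro r hr
    exact Subgroup.mem_centralizer_singleton_iff.1 (commute_radical hcard hRd hy hr)
  have hZc : Z ≤ center K := fun z hz => Subgroup.mem_center_iff.2 fun a =>
    Subtype.ext (Subgroup.mem_centralizer_iff.1 (hKR a.2) (z : G) (Subgroup.mem_subgroupOf.1 hz)).symm
  have hperf : commutator K = ⊤ := by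
    by_contra hne
    have hd : ¬ 11 ∣ Nat.card (commutator K) := fun h => hne (hfull _ inferInstance h)
    have hle : commutator K ≤ center K := (hMR _ inferInstance hd).trans hZc
    have hcomm : ∀ a ∈ {z : G | orderOf z = 11}, ∀ b ∈ {z : G | orderOf z = 11}, a * b = b * a := by
      intro a ha b hb
      set a' : K := ⟨a, Subgroup.subset_closure ha⟩ with ha'
      set b' : K := ⟨b, Subgroup.subset_closure hb⟩ with hb'
      set c : K := a' * b' * a'⁻¹ * b'⁻¹ with hc
      have hcm : c ∈ commutator K := by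
        rw [commutator_def]
        exact Subgroup.commutator_mem_commutator (Subgroup.mem_top a') (Subgroup.mem_top b')
      have hcz := Subgroup.mem_center_iff.1 (hle hcm)
      have hiter : ∀ n : ℕ, a' ^ n * b' * (a' ^ n)⁻¹ = c ^ n * b' := by
        intro n
        induction n with
        | zero => simp
        | succ n ih =>
          calc a' ^ (n + 1) * b' * (a' ^ (n + 1))⁻¹ = a' * (a' ^ n * b' * (a' ^ n)⁻¹) * a'⁻¹ := by
                rw [pow_succ']; group
            _ = a' * (c ^ n * b') * a'⁻¹ := by rw [ih]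
            _ = c ^ n * (a' * b' * a'⁻¹) := by
                rw [← mul_assoc a' (c ^ n), ((show Commute a' c from hcz a').pow_right n).eq]
                group
            _ = c ^ (n + 1) * b' := by rw [pow_succ, hc]; group
      have h11c : c ^ 11 = 1 := by
        have h := hiter 11
        rw [show a' ^ 11 = 1 by
          rw [← (Subgroup.orderOf_mk a (Subgroup.subset_closure ha)).trans ha, pow_orderOf_eq_one]] at h
        simpa using h.symm
      have hc1 : c = 1 := by
        rcases (Nat.dvd_prime (Fact.out : Nat.Prime 11)).1 (orderOf_dvd_of_pow_eq_one h11c) with e | e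
        · exact orderOf_eq_one_iff.1 e
        · refine absurd ?_ hd
          rw [← e, ← Subgroup.orderOf_mk c hcm]
          exact orderOf_dvd_natCard _
      have := congrArg Subtype.val (eq_mul_inv_iff_mul_eq.1 (hc.symm.trans hc1).symm)
      simp [ha', hb'] at this
      have h' : b = a * b * a⁻¹ := by simpa using this
      exact (mul_inv_eq_iff_eq_mul.1 h'.symm)
    haveI := Subgroup.isMulCommutative_closure hcomm
    obtain ⟨χ, hχ⟩ := h11
    have hidx := degree_dvd_index_of_comm K
      (fun a ha b hb => congrArg Subtype.val (mul_comm' (⟨a, ha⟩ : K) ⟨b, hb⟩)) χ.2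
      χ.2.apply_one_eq_charDegree
    have h2 := Subgroup.card_mul_index K
    refine hsq ⊤ ?_
    rw [Subgroup.card_top, ← h2, sq]
    exact mul_dvd_mul hK11 (hχ.trans hidx)
  have hZtop : Z ≠ ⊤ := fun e => hZd (by rw [e, Subgroup.card_top]; exact hK11)
  refine ⟨⟨K, hKn, Z, hperf, hZc, hK11, hZd, ?_, ?_⟩⟩
  · haveI : Nontrivial (K ⧸ Z) := by
      refine Finite.one_lt_card_iff_nontrivial.1 ?_
      rw [← Subgroup.index_eq_card]
      have h0 : Z.index ≠ 0 := Subgroup.index_ne_zero_of_finite
      have h1 : Z.index ≠ 1 := fun e => hZtop (Subgroup.index_eq_one.1 e)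
      omega
    refine ⟨fun N hN => ?_⟩
    have hL := hN.comap (QuotientGroup.mk' Z)
    by_cases hd : 11 ∣ Nat.card (N.comap (QuotientGroup.mk' Z))
    · right
      rw [← Subgroup.map_comap_eq_self_of_surjective (QuotientGroup.mk'_surjective Z) N, hfull _ hL hd,
        Subgroup.map_top_of_surjective _ (QuotientGroup.mk'_surjective Z)]
    · left
      rw [← Subgroup.map_comap_eq_self_of_surjective (QuotientGroup.mk'_surjective Z) N, eq_bot_iff]
      refine (Subgroup.map_mono (hMR _ hL hd)).trans ?_
      rw [(QuotientGroup.map_mk'_self Z)]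
  · intro hc
    refine hZtop (eq_top_iff.2 (hperf ▸ ?_))
    exact (Subgroup.Normal.quotient_commutative_iff_commutator_le (N := Z)).1 ⟨⟨fun a b => mul_comm' a b⟩⟩

end Layer

end Cfsg.Lib.MTwelveGraph
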