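import Cfsg.Agent.Lib.MTwelveGraph.Orders
import Cfsg.Agent.Lib.MTwelveGraph.Radical
import Cfsg.Agent.Lib.MTwelveGraph.Degrees
import Cfsg.Agent.Lib.MTwelveOrder.Main
import Cfsg.Agent.Lib.MEleven.Unique
import Cfsg.Agent.Lib.MEleven.CharDegrees
import Cfsg.Agent.Lib.Concrete.MathieuStem
import Cfsg.Agent.Lib.Concrete.MathieuOut
import Cfsg.Agent.Lib.Char.NilpotentDegree
import Cfsg.Agent.Lib.Dickson.SmallIds

/-!
Groups of order 95040 with degrees divisible by 55 and by 33 are M12 or the product of A4 and M11.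
-/

set_option autoImplicit false
set_option linter.style.haveILetI false
set_option linter.unusedSectionVars false

namespace Cfsg.Lib.MTwelveGraph

open Cfsg Cfsg.Lib.Char
open Subgroup (centralizer zpowers normalizer center)

universe u

noncomputable local instance (priority := high) fintypeSubgroupGraph {A : Type u} [Group A] [Fintype A]
    (H : Subgroup A) : Fintype H := Fintype.ofFinite H

/-- A degree bound from the centre. -/
theorem sq_charDegree_le {C : Type u} [Group C] [Fintype C] (D : Subgroup C) (hD : D ≤ center C)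
    (χ : IrrCharacter C) : charDegree (χ : C → ℂ) ^ 2 ≤ D.index := by
  have h := sq_degree_le_of_central D χ.2 fun x hx y => by
    rw [show x * y = y * x from (Subgroup.mem_center_iff.1 (hD hx) y).symm]
    group
  rw [χ.2.apply_one_eq_charDegree, Complex.natCast_re] at h
  exact_mod_cast h

section Layer

variable {G : Type u} [Group G] [Fintype G] (hcard : Nat.card G = 95040) (L : Layer G)

include hcard

/-- A constituent on the layer keeps the prime 11, and any prime missing from the index. -/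
theorem exists_constituent (χ : IrrCharacter G) : ∃ ψ : IrrCharacter L.K,
    charDegree (ψ : L.K → ℂ) ∣ charDegree (χ : G → ℂ) ∧
      charDegree (χ : G → ℂ) / charDegree (ψ : L.K → ℂ) ∣ L.K.index := by
  haveI := L.normal
  obtain ⟨θ, hθ⟩ := exists_irr_constituent_res L.K χ.2
  exact ⟨θ, degree_ratio_dvd_index L.K χ.2 θ.2 hθ χ.2.apply_one_eq_charDegree θ.2.apply_one_eq_charDegree⟩

theorem orders : ∃ S : ℕ, Nat.card (L.K ⧸ L.Z) = S ∧ S * Nat.card L.Z * L.K.index = 95040 ∧
    (S = 660 ∨ S = 7920 ∨ S = 95040) := by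
  have h1 := Subgroup.card_eq_card_quotient_mul_card_subgroup L.Z
  have h2 := Subgroup.card_mul_index L.K
  rw [hcard, h1] at h2
  refine ⟨_, rfl, h2, ?_⟩
  have h11 : 11 ∣ Nat.card (L.K ⧸ L.Z) := by
    rcases (by norm_num : Nat.Prime 11).dvd_mul.1 (h1 ▸ L.eleven) with h | h
    · exact h
    · exact absurd h L.not_dvd
  obtain ⟨m, hm⟩ := h11
  haveI := L.simple
  refine simple_orders hm ?_ L.noncomm
  refine Nat.dvd_of_mul_dvd_mul_left (by norm_num : 0 < 11) ?_
  rw [← hm, show 11 * 8640 = 95040 by norm_num, ← h2, mul_assoc]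
  exact dvd_mul_right _ _

theorem not_small (h55 : ∃ χ : IrrCharacter G, 55 ∣ charDegree (χ : G → ℂ))
    (hS : Nat.card (L.K ⧸ L.Z) = 660) (hidx : 660 * Nat.card L.Z * L.K.index = 95040) : False := by
  obtain ⟨χ, hχ⟩ := h55
  obtain ⟨ψ, hdvd, hratio⟩ := exists_constituent hcard L χ
  set d := charDegree (ψ : L.K → ℂ)
  have hcop : Nat.Coprime 55 L.K.index := by
    have h144 : L.K.index ∣ 144 := ⟨Nat.card L.Z, by
      refine Nat.eq_of_mul_eq_mul_left (by norm_num : 0 < 660) ?_
      rw [show 660 * 144 = 95040 by norm_num, ← hidx]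
      ring⟩
    exact Nat.Coprime.of_dvd_right h144 (by norm_num)
  have h55d : 55 ∣ d := by
    rw [← Nat.mul_div_cancel' hdvd] at hχ
    exact (Nat.Coprime.of_dvd_right hratio hcop).dvd_of_dvd_mul_right hχ
  have hd0 : 0 < d := Nat.pos_of_ne_zero fun e => ψ.2.apply_one_ne_zero (by
    rw [ψ.2.apply_one_eq_charDegree]; exact_mod_cast e)
  have hle := sq_charDegree_le L.Z L.central ψ
  rw [Subgroup.index_eq_card, hS] at hle
  have h1 := Nat.pow_le_pow_left (Nat.le_of_dvd hd0 h55d) 2
  have h2 : d ^ 2 ≤ 660 := hle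
  omega

theorem mulEquiv_of_top (hS : Nat.card (L.K ⧸ L.Z) = 95040) (hidx : 95040 * Nat.card L.Z * L.K.index = 95040) :
    Nonempty (G ≃* Spor.M12) := by
  have hZ : Nat.card L.Z = 1 := by
    have hd : Nat.card L.Z ∣ 1 := ⟨L.K.index, by
      refine Nat.eq_of_mul_eq_mul_left (by norm_num : 0 < 95040) ?_
      rw [← mul_assoc, hidx]⟩
    exact Nat.dvd_one.1 hd
  have hK : L.K = ⊤ := by
    rw [hZ, mul_one] at hidx
    exact Subgroup.index_eq_one.1 (by omega)
  haveI := L.simple
  let e : (L.K ⧸ L.Z) ≃* G := ((QuotientGroup.quotientMulEquivOfEq (Subgroup.card_eq_one.1 hZ)).trans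
    QuotientGroup.quotientBot).trans ((MulEquiv.subgroupCongr hK).trans Subgroup.topEquiv)
  exact MTwelveOrder.isoM12_of_isM12 ⟨e.isSimpleGroup_congr.1 L.simple, hcard⟩

/-- The layer is M11 when its factor has order 7920. -/
theorem layer_mEleven (hS : Nat.card (L.K ⧸ L.Z) = 7920) :
    Nat.card L.Z = 1 ∧ Nat.card L.K = 7920 ∧ IsSimpleGroup L.K := by
  haveI := L.simple
  obtain ⟨e⟩ := MEleven.nonempty_mulEquiv (G := L.K ⧸ L.Z) ⟨L.simple, hS⟩
    (G' := Spor.M11) ⟨Concrete.isSimple_sporM11, Concrete.card_sporM11⟩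
  haveI : Finite (Shrink.{0} L.K) := Finite.of_equiv _ (equivShrink.{0} L.K)
  let f : Shrink.{0} L.K ≃* L.K := Shrink.mulEquiv
  let σ : Shrink.{0} L.K →* Spor.M11 := (e.toMonoidHom.comp (QuotientGroup.mk' L.Z)).comp f.toMonoidHom
  have hker : σ.ker = L.Z.comap f.toMonoidHom := by
    ext x
    rw [MonoidHom.mem_ker, Subgroup.mem_comap]
    show e (QuotientGroup.mk' L.Z (f x)) = 1 ↔ _
    rw [MulEquiv.map_eq_one_iff]
    exact QuotientGroup.eq_one_iff _
  have hstem : IsStemExtension σ := by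
    refine ⟨(e.surjective.comp (QuotientGroup.mk'_surjective L.Z)).comp f.surjective, ?_, ?_⟩
    · intro x hx
      rw [hker, Subgroup.mem_comap] at hx
      exact Subgroup.mem_center_iff.2 fun y => f.injective (by
        rw [map_mul, map_mul]
        exact Subgroup.mem_center_iff.1 (L.central hx) (f y))
    · intro x _
      have h : commutator (Shrink.{0} L.K) = ⊤ := by
        refine Subgroup.map_injective (f := f.toMonoidHom) f.injective ?_
        rw [commutator_def, Subgroup.map_commutator, Subgroup.map_top_of_surjective _ f.surjective,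
          ← commutator_def, L.perfect]
      exact h ▸ Subgroup.mem_top x
  obtain ⟨π, hπ⟩ := Concrete.multiplier_sporM11.2 (Shrink.{0} L.K) σ hstem
  haveI : Subsingleton (Multiplicative (ZMod 1)) := inferInstanceAs (Subsingleton (ZMod 1))
  haveI : Subsingleton σ.ker := hπ.subsingleton
  have hZ : Nat.card L.Z = 1 := by
    refine Nat.card_eq_one_iff_unique.2 ⟨⟨fun a b => ?_⟩, inferInstance⟩
    have ha : ∀ z : L.Z, f.symm z ∈ σ.ker := fun z => by
      rw [hker, Subgroup.mem_comap]; simp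
    have := congrArg Subtype.val (Subsingleton.elim (⟨_, ha a⟩ : σ.ker) ⟨_, ha b⟩)
    exact Subtype.ext (f.symm.injective this)
  refine ⟨hZ, ?_, ?_⟩
  · rw [Subgroup.card_eq_card_quotient_mul_card_subgroup L.Z, hZ, mul_one, hS]
  · exact ((QuotientGroup.quotientMulEquivOfEq (Subgroup.card_eq_one.1 hZ)).trans
      QuotientGroup.quotientBot).isSimpleGroup_congr.1 L.simple

end Layer

theorem degrees_check : ∀ b ∈ ([1, 10, 10, 10, 11, 16, 16, 44, 45, 55] : List ℕ), 11 ∣ b → ¬ 3 ∣ b := by
  decide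

/-- A group of order 12 with a degree divisible by 3 is the alternating group of degree 4. -/
theorem iso_alternating {C : Type u} [Group C] [Fintype C] (h12 : Nat.card C = 12)
    (h3 : ∃ θ : IrrCharacter C, 3 ∣ charDegree (θ : C → ℂ)) : Nonempty (C ≃* alternatingGroup (Fin 4)) := by
  refine Dickson.iso_alternating_four (fun N hN hcyc => ?_) h12
  by_contra hne
  haveI := hN
  obtain ⟨θ, hθ⟩ := h3
  have hIto : 3 ∣ N.index := hθ.trans (degree_dvd_index_of_comm N (fun a ha b hb => by
    haveI := hcyc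
    exact congrArg Subtype.val ((IsCyclic.commGroup (α := N)).mul_comm ⟨a, ha⟩ ⟨b, hb⟩)) θ.2
    θ.2.apply_one_eq_charDegree)
  have hpos : 0 < charDegree (θ : C → ℂ) := Nat.pos_of_ne_zero fun e => θ.2.apply_one_ne_zero (by
    rw [θ.2.apply_one_eq_charDegree]; exact_mod_cast e)
  have hsq := Nat.pow_le_pow_left (Nat.le_of_dvd hpos hθ) 2
  have hN0 : Nat.card N ≠ 1 := fun e => hne (Subgroup.card_eq_one.1 e)
  have hmul := Subgroup.card_mul_index N
  rw [h12] at hmul
  have hd4 : Nat.card N ∣ 4 := by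
    obtain ⟨t, ht⟩ := hIto
    rw [ht] at hmul
    exact ⟨t, by rw [← Nat.mul_left_cancel_iff (by norm_num : 0 < 3)]; linarith⟩
  have h2 : 2 ∣ Nat.card N := by
    have := Nat.le_of_dvd (by norm_num) hd4
    interval_cases Nat.card N <;> omega
  obtain ⟨⟨z, hzN⟩, hz⟩ := exists_prime_orderOf_dvd_card' (G := N) 2 h2
  rw [Subgroup.orderOf_mk] at hz
  -- the involution of a cyclic group is unique
  have huniq : ∀ w ∈ N, orderOf w = 2 → w = z := by
    intro w hw hwo
    haveI := hcyc
    have h2' : 2 ∣ Fintype.card N := by rwa [← Nat.card_eq_fintype_card]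
    have hcount := IsCyclic.card_orderOf_eq_totient (α := N) h2'
    rw [Nat.totient_two, Finset.card_eq_one] at hcount
    obtain ⟨a, ha⟩ := hcount
    have hm : ∀ (v : C) (hv : v ∈ N), orderOf v = 2 → (⟨v, hv⟩ : N) = a := fun v hv hvo => by
      refine Finset.mem_singleton.1 (ha ▸ Finset.mem_filter.2 ⟨Finset.mem_univ _, ?_⟩)
      rw [Subgroup.orderOf_mk, hvo]
    exact congrArg Subtype.val ((hm w hw hwo).trans (hm z hzN hz).symm)
  have hzc : z ∈ center C := Subgroup.mem_center_iff.2 fun g =>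
    mul_inv_eq_iff_eq_mul.1 (huniq _ (hN.conj_mem z hzN g) (by rw [← MulAut.conj_apply, MulEquiv.orderOf_eq, hz]))
  have hle := sq_charDegree_le (zpowers z) (Subgroup.zpowers_le.2 hzc) θ
  have hm2 := Subgroup.card_mul_index (zpowers z)
  rw [Nat.card_zpowers, hz, h12] at hm2
  omega

/-- The product case. -/
theorem mulEquiv_prod {G : Type u} [Group G] [Fintype G] (hcard : Nat.card G = 95040) (L : Layer G)
    (hS : Nat.card (L.K ⧸ L.Z) = 7920) (h33 : ∃ χ : IrrCharacter G, 33 ∣ charDegree (χ : G → ℂ)) :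
    Nonempty (G ≃* alternatingGroup (Fin 4) × Spor.M11) := by
  classical
  obtain ⟨-, hK, hKs⟩ := layer_mEleven hcard L hS
  haveI := L.normal
  haveI := hKs
  obtain ⟨e⟩ := MEleven.nonempty_mulEquiv (G := L.K) ⟨hKs, hK⟩
    (G' := Spor.M11) ⟨Concrete.isSimple_sporM11, Concrete.card_sporM11⟩
  set C := centralizer (L.K : Set G) with hC
  haveI : Subsingleton (Out Spor.M11) := (Nat.card_eq_one_iff_unique.1 Concrete.card_out_sporM11).1
  -- every conjugation is inner on the layer
  have hinner : ∀ g : G, ∃ k : L.K, (k : G)⁻¹ * g ∈ C := by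
    intro g
    obtain ⟨m, hm⟩ : (e.symm.trans ((MulAut.conjNormal g : MulAut L.K).trans e) : MulAut Spor.M11) ∈ Inn Spor.M11 :=
      (QuotientGroup.eq_one_iff _).1 (Subsingleton.elim _ _)
    refine ⟨e.symm m, Subgroup.mem_centralizer_iff.2 fun y hy => ?_⟩
    have h1 := DFunLike.congr_fun hm (e ⟨y, hy⟩)
    have h2 : e.symm (m * e ⟨y, hy⟩ * m⁻¹) = (MulAut.conjNormal g : MulAut L.K) ⟨y, hy⟩ := by
      rw [← MulAut.conj_apply, h1]
      simp
    rw [map_mul, map_mul, map_inv, MulEquiv.symm_apply_apply] at h2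
    have h3 := congrArg Subtype.val h2
    rw [MulAut.conjNormal_apply] at h3
    simp only [Subgroup.coe_mul, InvMemClass.coe_inv] at h3
    set k : G := ((e.symm m : L.K) : G)
    calc y * (k⁻¹ * g) = k⁻¹ * (k * y * k⁻¹) * g := by group
      _ = k⁻¹ * (g * y * g⁻¹) * g := by rw [h3]
      _ = k⁻¹ * g * y := by group
  have hdisj : ∀ c ∈ C, ∀ k ∈ L.K, c * k = 1 → c = 1 ∧ k = 1 := by
    intro c hc k hk h
    have hkC : k ∈ C := by
      rw [show k = c⁻¹ from eq_inv_of_mul_eq_one_right h]
      exact inv_mem hc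
    have hkz : (⟨k, hk⟩ : L.K) ∈ center L.K := Subgroup.mem_center_iff.2 fun a =>
      Subtype.ext (Subgroup.mem_centralizer_iff.1 hkC (a : G) a.2)
    have hbot : center L.K = ⊥ := by
      rcases (inferInstance : (center L.K).Normal).eq_bot_or_eq_top with h' | h'
      · exact h'
      · exfalso
        have hc' : commutator L.K = ⊥ := by
          rw [commutator_def, Subgroup.commutator_eq_bot_iff_le_centralizer]
          intro a _
          rw [Subgroup.mem_centralizer_iff]
          intro b _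
          exact (Subgroup.mem_center_iff.1 (h' ▸ Subgroup.mem_top a) b)
        rw [L.perfect] at hc'
        have := congrArg (fun H : Subgroup L.K => Nat.card H) hc'
        simp only [Subgroup.card_top, Subgroup.card_bot, hK] at this
        omega
    rw [hbot, Subgroup.mem_bot] at hkz
    have hk1 : k = 1 := congrArg Subtype.val hkz
    exact ⟨by rw [hk1, mul_one] at h; exact h, hk1⟩
  let φ : C × L.K →* G :=
    { toFun := fun p => (p.1 : G) * p.2
      map_one' := by simp
      map_mul' := fun p q => by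
        simp only [Prod.fst_mul, Prod.snd_mul, Subgroup.coe_mul]
        rw [mul_assoc (p.1 : G), ← mul_assoc (q.1 : G), ← Subgroup.mem_centralizer_iff.1 q.1.2 (p.2 : G) p.2.2]
        group }
  have hφ : Function.Bijective φ := by
    refine ⟨(injective_iff_map_eq_one φ).2 fun p hp => ?_, fun g => ?_⟩
    · obtain ⟨h1, h2⟩ := hdisj _ p.1.2 _ p.2.2 hp
      exact Prod.ext (Subtype.ext h1) (Subtype.ext h2)
    · obtain ⟨k, hk⟩ := hinner g
      refine ⟨(⟨_, hk⟩, k), ?_⟩
      show (k : G)⁻¹ * g * k = g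
      rw [← Subgroup.mem_centralizer_iff.1 hk (k : G) k.2]
      group
  let eG : C × L.K ≃* G := MulEquiv.ofBijective φ hφ
  have hC12 : Nat.card C = 12 := by
    have h := Nat.card_congr eG.toEquiv
    rw [Nat.card_prod, hK, hcard] at h
    omega
  obtain ⟨χ, hχ⟩ := h33
  obtain ⟨a, b, rfl⟩ := NilDegree.exists_prodIrr eG χ
  have hdeg : charDegree ((NilDegree.prodIrr eG a b : IrrCharacter G) : G → ℂ) =
      charDegree (a : C → ℂ) * charDegree (b : L.K → ℂ) := by
    have h := NilDegree.prodIrr_apply_one eG a b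
    rw [(NilDegree.prodIrr eG a b).2.apply_one_eq_charDegree, a.2.apply_one_eq_charDegree, b.2.apply_one_eq_charDegree] at h
    exact_mod_cast h
  rw [hdeg] at hχ
  haveI : Fact (Nat.Prime 2) := ⟨Nat.prime_two⟩
  haveI : Fact (Nat.Prime 3) := ⟨Nat.prime_three⟩
  haveI : Fact (Nat.Prime 5) := ⟨by norm_num⟩
  haveI : Fact (Nat.Prime 11) := ⟨by norm_num⟩
  have hb : charDegree (b : L.K → ℂ) ∈ ([1, 10, 10, 10, 11, 16, 16, 44, 45, 55] : List ℕ) := by
    have h : charDegree (b : L.K → ℂ) ∈
        (Finset.univ : Finset (IrrCharacter L.K)).val.map MEleven.deg :=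
      Multiset.mem_map.2 ⟨b, Finset.mem_univ _, rfl⟩
    rw [(MEleven.degrees_eq (G := L.K) ⟨hKs, hK⟩).2] at h
    simpa using h
  have h3a : 3 ∣ charDegree (a : C → ℂ) := by
    have h3 : Nat.Prime 3 := Nat.prime_three
    rcases h3.dvd_mul.1 ((by norm_num : 3 ∣ 33).trans hχ) with h | h
    · exact h
    exfalso
    rcases (Fact.out : Nat.Prime 11).dvd_mul.1 ((by norm_num : 11 ∣ 33).trans hχ) with h' | h'
    · have hle := sq_charDegree_le (⊥ : Subgroup C) bot_le a
      rw [Subgroup.index_bot, hC12] at hle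
      have hpos : 0 < charDegree (a : C → ℂ) := Nat.pos_of_ne_zero fun e' => a.2.apply_one_ne_zero (by
        rw [a.2.apply_one_eq_charDegree]; exact_mod_cast e')
      have := Nat.pow_le_pow_left (Nat.le_of_dvd hpos h') 2
      omega
    · exact degrees_check _ hb h' h
  obtain ⟨eA⟩ := iso_alternating hC12 ⟨a, h3a⟩
  exact ⟨eG.symm.trans (MulEquiv.prodCongr eA e)⟩

theorem main {G : Type u} [Group G] [Fintype G] (hcard : Nat.card G = 95040)
    (h55 : ∃ χ : IrrCharacter G, 55 ∣ charDegree (χ : G → ℂ))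
    (h33 : ∃ χ : IrrCharacter G, 33 ∣ charDegree (χ : G → ℂ)) :
    Nonempty (G ≃* Spor.M12) ∨ Nonempty (G ≃* alternatingGroup (Fin 4) × Spor.M11) := by
  obtain ⟨L⟩ := exists_layer hcard (h55.imp fun χ h => (by norm_num : 11 ∣ 55).trans h)
  obtain ⟨S, hS, hidx, h | h | h⟩ := orders hcard L
  · subst h; exact (not_small hcard L h55 hS hidx).elim
  · subst h; exact Or.inr (mulEquiv_prod hcard L hS h33)
  · subst h; exact Or.inl (mulEquiv_of_top hcard L hS hidx)

end Cfsg.Lib.MTwelveGraph
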