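import Cfsg.Agent.Lib.MTwelveGraph.Special
import Cfsg.Agent.Lib.Small.Gap.SimpleData

/-!
The orders of the simple groups whose order is 11 times a divisor of 8640.
-/

set_option autoImplicit false
set_option linter.style.haveILetI false
set_option linter.unusedSectionVars false
set_option maxRecDepth 100000

namespace Cfsg.Lib.MTwelveGraph

open Cfsg Cfsg.Lib.Char Cfsg.Lib.Block Cfsg.Lib.MTwelveOrder
open Subgroup (centralizer zpowers normalizer)

universe u

local instance fact_eleven_orders : Fact (Nat.Prime 11) := ⟨by norm_num⟩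
local instance fact_three_orders : Fact (Nat.Prime 3) := ⟨by norm_num⟩

/-- The cofactors to be examined. -/
def bigCofactors : List ℕ := [576, 720, 864, 960, 1080, 1440, 1728, 2160, 2880, 4320]

theorem cofactor_check : ∀ m ∈ Nat.divisors 8640, 546 ≤ m → m ≠ 8640 → m ∈ bigCofactors := by decide +kernel

theorem option_check_one : ∀ m ∈ bigCofactors, ∀ e ∈ ([2, 5, 10] : List ℕ), ∀ n ∈ ([12, 45, 144, 320, 540, 1728] : List ℕ),
    e * n ∣ m → m / (e * n) = 1 → (m = 720 ∨ (m = 1080 ∧ e = 2) ∨ (m = 1440 ∧ e = 10)) := by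
  decide +kernel

theorem option_check_two : ∀ m ∈ bigCofactors, ∀ e ∈ ([5, 10] : List ℕ), ∀ n ∈ ([12, 45, 144, 320, 540, 1728] : List ℕ),
    e * n ∣ m → m / (e * n) ≠ 1 → ¬ 2 ∣ m / (e * n) → n = 12 ∨ (n = 144 ∧ m / (e * n) = 3 ∧ 27 ∣ m) := by
  decide +kernel

variable {G : Type u} [Group G] [Fintype G] {m : ℕ}

/-- An element commuting with one of order 11 and fixing its fixed points is trivial in an action on
fewer points than 11 times its order. -/
theorem false_of_small_action [IsSimpleGroup G] {Ω : Type u} [Finite Ω] [MulAction G Ω]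
    [MulAction.IsPretransitive G Ω] (hΩ : 1 < Nat.card Ω) {x z : G} {r : ℕ} (hx : orderOf x = 11) (hr : r.Prime)
    (hr11 : r ≠ 11) (hz : orderOf z = r) (hc : Commute x z) (hlt : Nat.card Ω < 11 * r)
    (hfix : ∀ ω : Ω, x • ω = ω → z • ω = ω) : False := by
  classical
  have hpow : ∀ (i : ℕ) (ω : Ω), ¬ 11 ∣ i → x ^ i • ω = ω → x • ω = ω := by
    intro i ω hi hω
    have hmem : x ^ i ∈ MulAction.stabilizer G ω := hω
    obtain ⟨j, hj⟩ := exists_pow_eq_self_of_coprime (x := x) (n := i)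
      (by rw [hx]; exact ((Fact.out : Nat.Prime 11).coprime_iff_not_dvd.2 hi).symm)
    exact (hj ▸ pow_mem hmem j : x ∈ MulAction.stabilizer G ω)
  have hall : ∀ ω : Ω, z • ω = ω := by
    intro ω
    by_cases hω : x • ω = ω
    · exact hfix ω hω
    let F : Fin 11 × Fin r → Ω := fun p => (x ^ (p.1 : ℕ) * z ^ (p.2 : ℕ)) • ω
    have hF : ¬ Function.Injective F := fun h => by
      have := Nat.card_le_card_of_injective F h
      rw [Nat.card_prod, Nat.card_fin, Nat.card_fin] at this
      omega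
    simp only [Function.Injective, not_forall, exists_prop, Prod.forall] at hF
    obtain ⟨i, j, i', j', heq, hne⟩ := hF
    simp only [F] at heq
    -- move everything to one side
    have hzr : z ^ r = 1 := by rw [← hz, pow_orderOf_eq_one]
    have hx11 : x ^ 11 = 1 := by rw [← hx, pow_orderOf_eq_one]
    set a : ℕ := (i : ℕ) + (11 - (i' : ℕ)) with ha
    set b : ℕ := (j : ℕ) + (r - (j' : ℕ)) with hb
    have hab : (x ^ a * z ^ b) • ω = ω := by
      have e1 : x ^ a * z ^ b = (x ^ (i' : ℕ) * z ^ (j' : ℕ))⁻¹ * (x ^ (i : ℕ) * z ^ (j : ℕ)) := by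
        have h1 : x ^ (11 - (i' : ℕ)) = (x ^ (i' : ℕ))⁻¹ := eq_inv_of_mul_eq_one_left (by
          rw [← pow_add, Nat.sub_add_cancel i'.2.le, hx11])
        have h2 : z ^ (r - (j' : ℕ)) = (z ^ (j' : ℕ))⁻¹ := eq_inv_of_mul_eq_one_left (by
          rw [← pow_add, Nat.sub_add_cancel j'.2.le, hzr])
        rw [ha, hb, pow_add, pow_add, h1, h2]
        have c1 : Commute (x ^ (i' : ℕ))⁻¹ (z ^ (j : ℕ)) := (hc.pow_pow _ _).inv_left
        have c2 : Commute (x ^ (i' : ℕ))⁻¹ (x ^ (i : ℕ)) := ((Commute.refl x).pow_pow _ _).inv_left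
        have c3 : Commute (z ^ (j' : ℕ))⁻¹ (x ^ (i : ℕ)) := (hc.symm.pow_pow _ _).inv_left
        have c4 : Commute (z ^ (j' : ℕ))⁻¹ (z ^ (j : ℕ)) := ((Commute.refl z).pow_pow _ _).inv_left
        calc x ^ (i : ℕ) * (x ^ (i' : ℕ))⁻¹ * (z ^ (j : ℕ) * (z ^ (j' : ℕ))⁻¹)
            = x ^ (i : ℕ) * ((x ^ (i' : ℕ))⁻¹ * z ^ (j : ℕ)) * (z ^ (j' : ℕ))⁻¹ := by group
          _ = x ^ (i : ℕ) * z ^ (j : ℕ) * ((x ^ (i' : ℕ))⁻¹ * (z ^ (j' : ℕ))⁻¹) := by rw [c1.eq]; group
          _ = ((x ^ (i' : ℕ))⁻¹ * (z ^ (j' : ℕ))⁻¹) * (x ^ (i : ℕ) * z ^ (j : ℕ)) :=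
              ((c2.mul_right c1).mul_left (c3.mul_right c4)).eq.symm
          _ = _ := by rw [mul_inv_rev, ((hc.pow_pow (i' : ℕ) (j' : ℕ)).inv_inv).eq]
      rw [e1, mul_smul, heq, inv_smul_smul]
    by_cases hb0 : r ∣ b
    · exfalso
      obtain ⟨t, ht⟩ := hb0
      rw [show z ^ b = 1 by rw [ht, pow_mul, hzr, one_pow], mul_one] at hab
      have hj : (j : ℕ) = j' := by
        have h1 := j.2
        have h2 := j'.2
        have : t = 1 := by
          rcases t with _ | _ | t
          · omega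
          · rfl
          · exfalso
            have hb2 : b < 2 * r := by omega
            nlinarith
        subst this
        omega
      refine hω (hpow a ω (fun h => hne ?_) hab)
      have h1 := i.2
      have h2 := i'.2
      rw [Prod.mk.injEq]
      exact ⟨Fin.ext (by omega), Fin.ext hj⟩
    -- a power of z acts on the point as a power of x
    obtain ⟨n, hn⟩ := exists_pow_eq_self_of_coprime (x := z) (n := b)
      (by rw [hz]; exact (hr.coprime_iff_not_dvd.2 hb0).symm)
    have hxa : z ^ b • ω = (x ^ a)⁻¹ • ω := by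
      rw [mul_smul] at hab
      exact eq_inv_smul_iff.2 hab
    have hzw : z • ω = ((x ^ a)⁻¹) ^ n • ω := by
      conv_lhs => rw [← hn]
      clear hn
      induction n with
      | zero => simp
      | succ n ih =>
        rw [pow_succ, mul_smul, hxa, ← mul_smul,
          show (z ^ b) ^ n * (x ^ a)⁻¹ = (x ^ a)⁻¹ * (z ^ b) ^ n from
            ((hc.pow_pow a b).inv_left.pow_right n).eq.symm, mul_smul, ih, ← mul_smul, ← pow_succ']
    set y := ((x ^ a)⁻¹) ^ n with hy
    have hcy : Commute y z := ((hc.pow_left a).inv_left).pow_left n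
    have hiter : ∀ k : ℕ, z ^ k • ω = y ^ k • ω := by
      intro k
      induction k with
      | zero => simp
      | succ k ih =>
        rw [pow_succ, mul_smul, hzw, ← mul_smul, ← (hcy.pow_right k).eq, mul_smul, ih, ← mul_smul, ← pow_succ']
    have hyr : y ^ r • ω = ω := by rw [← hiter, hzr, one_smul]
    have hymem : y ∈ zpowers x :=
      pow_mem (inv_mem (pow_mem (Subgroup.mem_zpowers x) a)) n
    obtain ⟨l, hl⟩ := mem_powers_iff_mem_zpowers.2 hymem
    change x ^ l = y at hl
    by_cases h11 : 11 ∣ l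
    · rw [hzw, ← hl]
      obtain ⟨t, rfl⟩ := h11
      rw [pow_mul, hx11, one_pow, one_smul]
    · exfalso
      refine hω (hpow (l * r) ω (fun h => ?_) (by rw [pow_mul, hl, hyr]))
      rcases (Fact.out : Nat.Prime 11).dvd_mul.1 h with h | h
      · exact h11 h
      · exact hr11 ((Nat.prime_dvd_prime_iff_eq (Fact.out : Nat.Prime 11) hr).1 h).symm
  have hker : z ∈ (MulAction.toPermHom G Ω).ker := MonoidHom.mem_ker.2 (Equiv.ext hall)
  rcases (MonoidHom.normal_ker (MulAction.toPermHom G Ω)).eq_bot_or_eq_top with h | h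
  · rw [h, Subgroup.mem_bot] at hker
    rw [hker, orderOf_one] at hz
    exact hr.ne_one hz.symm
  · haveI : Nontrivial Ω := Finite.one_lt_card_iff_nontrivial.1 hΩ
    obtain ⟨ω, ω', hne⟩ := exists_pair_ne Ω
    obtain ⟨g, hg⟩ := MulAction.exists_smul_eq G ω ω'
    have hg' : g ∈ (MulAction.toPermHom G Ω).ker := h ▸ Subgroup.mem_top g
    have : g • ω = ω := Equiv.ext_iff.1 (MonoidHom.mem_ker.1 hg') ω
    exact hne (this.symm.trans hg)

section Cases

variable {P : Sylow 11 G} {e c : ℕ}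

theorem two_false (hS : ElevenM G m) (S : Small.Shape P 2)
    (hbig : ∀ χ ∈ S.Z, χ ≠ Small.one' G → 22 ≤ cdeg χ) : False := by
  haveI := hS.simple
  obtain ⟨χ, hχX, hne, -, -, hθ, hd2, hf2, hdd, hfd, hdf, hsum⟩ :=
    S.two_cases hS.not_cyclic hS.card rfl (by norm_num)
  have hb1 := hbig χ (S.mem_Z.2 (Or.inr hχX)) hne
  have hb2 := hbig S.θ (S.mem_Z.2 (Or.inl rfl)) hθ
  have hsum := hsum.trans hS.card_le
  have hlt : cdeg χ < 127 := by
    by_contra hn
    have e1 := Nat.pow_le_pow_left (not_lt.1 hn) 2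
    have e2 := Nat.pow_le_pow_left (show 126 ≤ charDegree (S.θ : G → ℂ) by
      rcases hdf with ⟨-, -, -, h⟩ | ⟨-, -, -, h⟩ <;> omega) 2
    norm_num at hsum e1 e2 ⊢
    linarith
  have := eq_two_cases (cdeg χ) (List.mem_range.2 hlt) (charDegree (S.θ : G → ℂ))
    (by rcases hdf with ⟨-, -, -, h⟩ | ⟨-, -, -, h⟩
        · simp; omega
        · simp; omega) hd2 hf2 (hdd.trans hS.dvd) (hfd.trans hS.dvd)
    (by rcases hdf with ⟨-, -, h', h⟩ | ⟨-, -, h', h⟩
        · exact Or.inl ⟨h', h⟩
        · exact Or.inr ⟨h', h⟩)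
  omega

theorem twelve_false (hS : ElevenM G m) (S : Small.Shape P e) (h12 : Nat.card (Sylow 11 G) = 12)
    (hC : Nat.card (centralizer ((P : Subgroup G) : Set G)) = 11 * c) (hc : c ≠ 1) (h11 : ¬ 11 ∣ c)
    (h2 : ¬ 2 ∣ c) : False := by
  haveI := hS.simple
  obtain ⟨x, hx, hx1, hxo, hP⟩ := exists_generator S
  obtain ⟨r, hr, hrc⟩ := Nat.exists_prime_and_dvd hc
  haveI := Fact.mk hr
  obtain ⟨⟨z, hzC⟩, hz⟩ := exists_prime_orderOf_dvd_card' (G := centralizer ((P : Subgroup G) : Set G)) r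
    (by rw [hC]; exact dvd_mul_of_dvd_right hrc 11)
  rw [Subgroup.orderOf_mk] at hz
  have hr11 : r ≠ 11 := fun e => h11 (e ▸ hrc)
  have hr2 : r ≠ 2 := fun e => h2 (e ▸ hrc)
  have hr3 : 3 ≤ r := by have := hr.two_le; omega
  refine false_of_small_action (G := G) (Ω := Sylow 11 G) (by rw [h12]; norm_num) hxo hr hr11 hz
    (Subgroup.mem_centralizer_iff.1 hzC x hx) (by rw [h12]; omega) fun Q hQ => ?_
  have hxQ : x ∈ normalizer ((Q : Subgroup G) : Set G) := Sylow.smul_eq_iff_mem_normalizer.1 hQ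
  have hp : IsPGroup 11 ((P : Subgroup G) ⊔ (Q : Subgroup G) : Subgroup G) :=
    IsPGroup.to_sup_of_normal_right' P.isPGroup' Q.isPGroup' (hP ▸ Subgroup.zpowers_le.2 hxQ)
  have hQP : Q = P := Sylow.ext (((Q.is_maximal' hp le_sup_right)).symm.trans (P.is_maximal' hp le_sup_left))
  subst hQP
  exact Sylow.smul_eq_iff_mem_normalizer.2 (Subgroup.centralizer_le_normalizer _ hzC)

theorem three_false (hS : ElevenM G m) (S : Small.Shape P e) (he : e = 5 ∨ e = 10)
    (hC : Nat.card (centralizer ((P : Subgroup G) : Set G)) = 11 * 3) (hm : m = 144 * e * 3) (h27 : 27 ∣ m) :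
    False := by
  classical
  haveI := hS.simple
  obtain ⟨x, hx, hx1, hxo, hP⟩ := exists_generator S
  set C := centralizer ((P : Subgroup G) : Set G) with hCdef
  obtain ⟨⟨z, hzC⟩, hz⟩ := exists_prime_orderOf_dvd_card' (G := C) 3 (by rw [hC]; norm_num)
  rw [Subgroup.orderOf_mk] at hz
  have hxz : Commute x z := Subgroup.mem_centralizer_iff.1 hzC x hx
  -- the elements of order dividing 3 of the centraliser are powers of z
  have hcyc : ∀ w ∈ C, orderOf w = 3 → w ∈ zpowers z := by
    intro w hw hwo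
    have hg : orderOf (x * z) = 33 := by
      rw [hxz.orderOf_mul_eq_mul_orderOf_of_coprime (by rw [hxo, hz]; norm_num), hxo, hz]
    have hgC : x * z ∈ C := mul_mem (Block.le_centralizer_self S.card_P hx) hzC
    have hgen : zpowers (x * z) = C := Subgroup.eq_of_le_of_card_ge (Subgroup.zpowers_le.2 hgC)
      (by rw [Nat.card_zpowers, hg, hC])
    rw [← hgen] at hw
    obtain ⟨k, hk⟩ := mem_powers_iff_mem_zpowers.2 hw
    change (x * z) ^ k = w at hk
    have h3 : 33 ∣ k * 3 := by
      rw [← hg]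
      exact orderOf_dvd_of_pow_eq_one (by rw [pow_mul, hk, ← hwo, pow_orderOf_eq_one])
    obtain ⟨t, rfl⟩ : 11 ∣ k := by omega
    refine mem_powers_iff_mem_zpowers.1 ⟨11 * t, ?_⟩
    rw [← hk, hxz.mul_pow, show x ^ (11 * t) = 1 by rw [pow_mul, ← hxo, pow_orderOf_eq_one, one_pow], one_mul]
  have hZ : ∀ g ∈ normalizer ((P : Subgroup G) : Set G), g * z * g⁻¹ ∈ zpowers z := by
    intro g hg
    refine hcyc _ ?_ (by rw [← MulAut.conj_apply, MulEquiv.orderOf_eq, hz])
    rw [Subgroup.mem_centralizer_iff]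
    intro w hw
    have hw' : g⁻¹ * w * g ∈ (P : Subgroup G) :=
      (Subgroup.mem_normalizer_iff.1 hg _).2 (by simpa [mul_assoc] using (SetLike.mem_coe.1 hw))
    have h := (Subgroup.mem_centralizer_iff.1 hzC) _ hw'
    calc w * (g * z * g⁻¹) = g * ((g⁻¹ * w * g) * z) * g⁻¹ := by group
      _ = g * (z * (g⁻¹ * w * g)) * g⁻¹ := by rw [h]
      _ = _ := by group
  set H := centralizer ({z} : Set G) with hHdef
  set N := normalizer ((P : Subgroup G) : Set G) with hN
  have hNcard : Nat.card N = e * 33 := by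
    have h := Subgroup.index_mul_card (C.subgroupOf N)
    rw [Nat.card_congr (Subgroup.subgroupOfEquivOfLe (Subgroup.centralizer_le_normalizer _)).toEquiv, hC] at h
    rw [← h]
    exact congrArg (· * 33) S.relIndex_eq
  have hzz : Nat.card (zpowers z) = 3 := by rw [Nat.card_zpowers, hz]
  have hNZ : N ≤ normalizer ((zpowers z : Subgroup G) : Set G) := fun g hg => by
    refine Subgroup.mem_normalizer_fintype fun k hk => ?_
    obtain ⟨i, rfl⟩ := Subgroup.mem_zpowers_iff.1 hk
    show g * z ^ i * g⁻¹ ∈ zpowers z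
    rw [← conj_zpow]
    exact zpow_mem (hZ g hg) i
  have hrel : H.relIndex N ≤ 2 := by
    have h2 := Small.relIndex_centralizer_dvd (p := 3) (zpowers z) hzz
    rw [Small.centralizer_zpowers] at h2
    exact le_trans (Subgroup.relIndex_le_of_le_right hNZ Subgroup.index_ne_zero_of_finite)
      (Nat.le_of_dvd (by norm_num) h2)
  have hPH : (P : Subgroup G) ≤ H := by
    rw [← hP, Subgroup.zpowers_le]
    exact Subgroup.mem_centralizer_singleton_iff.2 hxz.eq
  -- the Sylow subgroups of the centraliser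
  set P' := P.subtype hPH with hP'
  have hn : Nat.card (Sylow 11 H) = (normalizer ((P' : Subgroup H) : Set H)).index :=
    P'.card_eq_index_normalizer
  have hNH : Nat.card (normalizer ((P' : Subgroup H) : Set H)) = Nat.card (H.subgroupOf N) := by
    have e1 : normalizer ((P' : Subgroup H) : Set H) = N.subgroupOf H := by
      ext h
      simp only [hP', Subgroup.mem_subgroupOf, hN, Subgroup.mem_normalizer_iff, Sylow.coe_subtype,
        Subgroup.mem_subgroupOf]
      constructor
      · intro hh y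
        constructor
        · intro hy
          exact (hh ⟨y, hPH hy⟩).1 hy
        · intro hy
          have hyH : y ∈ H := by
            have := hPH hy
            have h' := mul_mem (mul_mem (inv_mem h.2) this) h.2
            simpa [mul_assoc] using h'
          exact (hh ⟨y, hyH⟩).2 hy
      · intro hh y
        exact hh y
    rw [e1]
    exact Nat.card_congr
      { toFun := fun x => ⟨⟨((x : H) : G), Subgroup.mem_subgroupOf.1 x.2⟩, Subgroup.mem_subgroupOf.2 x.1.2⟩
        invFun := fun x => ⟨⟨((x : N) : G), Subgroup.mem_subgroupOf.1 x.2⟩, Subgroup.mem_subgroupOf.2 x.1.2⟩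
        left_inv := fun _ => rfl
        right_inv := fun _ => rfl }
  have hHN := Subgroup.card_mul_index (H.subgroupOf N)
  rw [show (H.subgroupOf N).index = H.relIndex N from rfl, hNcard] at hHN
  have hHc := Subgroup.card_mul_index (normalizer ((P' : Subgroup H) : Set H))
  rw [← hn, hNH] at hHc
  have hmod := card_sylow_modEq_one 11 H
  have h9 : 9 ∣ Nat.card H := MTwelveOrder.nine_dvd_centralizer
    (by rw [hS.card]; exact dvd_mul_of_dvd_right h27 11) hz
  set n := Nat.card (Sylow 11 H)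
  set a := Nat.card (H.subgroupOf N)
  have hne : n ≠ 1 := by
    intro e1
    rw [e1, mul_one] at hHc
    have h9N : 9 ∣ e * 33 := hHN ▸ dvd_mul_of_dvd_left (hHc ▸ h9) _
    rcases he with rfl | rfl <;> norm_num at h9N
  have hn12 : 12 ≤ n := by
    have hnpos : 0 < n := Nat.card_pos
    have hm1 : n % 11 = 1 := hmod
    omega
  have hidx := Subgroup.card_mul_index H
  rw [hS.card, hm] at hidx
  have hH1 : H.index ≤ 24 := by
    have h1 : 12 * a ≤ Nat.card H := by rw [← hHc]; nlinarith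
    have h2 : e * 33 ≤ 2 * a := by rw [← hHN]; nlinarith
    rcases he with rfl | rfl <;> nlinarith
  have hH2 : 1 < H.index := by
    rcases Nat.lt_or_ge 1 H.index with h | h
    · exact h
    exfalso
    have h0 : H.index ≠ 0 := Subgroup.index_ne_zero_of_finite
    have htop : H = ⊤ := Subgroup.index_eq_one.1 (by omega)
    have hzc : z ∈ Subgroup.center G := Subgroup.mem_center_iff.2 fun g =>
      Subgroup.mem_centralizer_singleton_iff.1 (show g ∈ centralizer ({z} : Set G) from hHdef ▸ htop ▸ Subgroup.mem_top g)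
    rw [MTwelveOrder.center_eq_bot hS.not_cyclic, Subgroup.mem_bot] at hzc
    rw [hzc, orderOf_one] at hz
    norm_num at hz
  refine false_of_small_action (G := G) (Ω := G ⧸ H) (by rw [← Subgroup.index_eq_card]; exact hH2) hxo
    Nat.prime_three (by norm_num) hz hxz (by rw [← Subgroup.index_eq_card]; omega) fun ω hω => ?_
  induction ω using QuotientGroup.induction_on with
  | H g =>
    rw [MulAction.Quotient.smul_coe, smul_eq_mul, eq_comm, QuotientGroup.eq] at hω
    rw [MulAction.Quotient.smul_coe, smul_eq_mul, eq_comm, QuotientGroup.eq]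
    have hxH : g⁻¹ * x * g ∈ H := by simpa [mul_assoc] using hω
    have hxo' : orderOf (⟨g⁻¹ * x * g, hxH⟩ : H) = 11 := by
      rw [Subgroup.orderOf_mk, show g⁻¹ * x * g = MulAut.conj g⁻¹ x by simp, MulEquiv.orderOf_eq, hxo]
    obtain ⟨Q, hQ⟩ := (IsPGroup.of_card (n := 1) (by rw [Nat.card_zpowers, hxo', pow_one]) :
      IsPGroup 11 (zpowers (⟨g⁻¹ * x * g, hxH⟩ : H))).exists_le_sylow
    obtain ⟨h, hh⟩ := MulAction.exists_smul_eq H Q P'
    have hgh : g * (h : G)⁻¹ ∈ N := by
      have hmem : (h * ⟨g⁻¹ * x * g, hxH⟩ * h⁻¹ : H) ∈ (P' : Subgroup H) := by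
        rw [← hh, Sylow.coe_subgroup_smul]
        exact ⟨_, hQ (Subgroup.mem_zpowers _), rfl⟩
      have hmem' : (h : G) * (g⁻¹ * x * g) * (h : G)⁻¹ ∈ (P : Subgroup G) := by
        simpa [hP', Sylow.coe_subtype, Subgroup.mem_subgroupOf] using hmem
      rw [hN, ← hP]
      rw [← hP] at hmem'
      have he : (zpowers x).map (MulAut.conj ((h : G) * g⁻¹)).toMonoidHom = zpowers x := by
        rw [MonoidHom.map_zpowers]
        refine Subgroup.eq_of_le_of_card_ge (Subgroup.zpowers_le.2 ?_) (le_of_eq ?_)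
        · show (h : G) * g⁻¹ * x * ((h : G) * g⁻¹)⁻¹ ∈ zpowers x
          simpa [mul_assoc] using hmem'
        · rw [Nat.card_zpowers, Nat.card_zpowers]
          exact (MulEquiv.orderOf_eq (MulAut.conj ((h : G) * g⁻¹)) x).symm
      have hk : (h : G) * g⁻¹ ∈ normalizer ((zpowers x : Subgroup G) : Set G) :=
        Subgroup.mem_normalizer_fintype fun y hy => by
          rw [SetLike.mem_coe] at hy ⊢
          exact he ▸ ⟨y, hy, rfl⟩
      simpa using inv_mem hk
    obtain ⟨i, hi⟩ := Subgroup.mem_zpowers_iff.1 (hZ _ (inv_mem hgh))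
    have hh' : Commute (h : G) z := Subgroup.mem_centralizer_singleton_iff.1 h.2
    show g⁻¹ * (z * g) ∈ H
    have e2 : (g * (h : G)⁻¹)⁻¹ * z * (g * (h : G)⁻¹) = z ^ i := by rw [hi, inv_inv]
    have e1 : g⁻¹ * (z * g) = z ^ i := by
      calc g⁻¹ * (z * g) = (h : G)⁻¹ * ((g * (h : G)⁻¹)⁻¹ * z * (g * (h : G)⁻¹)) * h := by group
        _ = z ^ i := by rw [e2, (hh'.inv_left.zpow_right i).eq, inv_mul_cancel_right]
    rw [e1]
    exact zpow_mem (Subgroup.mem_centralizer_singleton_iff.2 rfl) i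

end Cases

/-- The simple groups of order 11 times a divisor of 8640 have order 660, 7920 or 95040. -/
theorem simple_orders {S₀ : Type u} [Group S₀] [Finite S₀] [hsimp : IsSimpleGroup S₀] {m : ℕ}
    (hcard : Nat.card S₀ = 11 * m) (hm : m ∣ 8640) (hna : ¬ IsMulCommutative S₀) :
    Nat.card S₀ = 660 ∨ Nat.card S₀ = 7920 ∨ Nat.card S₀ = 95040 := by
  classical
  by_cases hlt : Nat.card S₀ < 6000
  · have h := Small.Gap.mem_orders hna hlt
    simp only [Small.Gap.orders, List.mem_cons, List.not_mem_nil, or_false] at h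
    have h11 : 11 ∣ Nat.card S₀ := ⟨m, hcard⟩
    rcases h with h | h | h | h | h | h | h | h | h | h | h <;> rw [h] at h11 <;>
      first | exact Or.inl h | norm_num at h11
  haveI := Fintype.ofFinite S₀
  by_cases htop : m = 8640
  · exact Or.inr (Or.inr (by rw [hcard, htop]))
  have hS : ElevenM S₀ m := ⟨hsimp, hcard, hm, fun e => by rw [e] at hcard; omega⟩
  have hmb := cofactor_check m (Nat.mem_divisors.2 ⟨hm, by norm_num⟩) (by omega) htop
  obtain ⟨P, e, c, n, ⟨S⟩, hC, hnec, hn1, hnne, he2, hed, hn⟩ :=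
    Small.block_setup (p := 11) (G := S₀) (by norm_num) hcard hS.not_dvd hS.big
  have hsq : ¬ 11 ^ 2 ∣ Nat.card S₀ := Small.block_setup_c hcard hS.not_dvd
  have hbig : c ≠ 1 → ∀ χ ∈ S.Z, χ ≠ Small.one' S₀ → 22 ≤ cdeg χ := by
    intro hc1 χ hχ hne
    by_contra hlt'
    have := S.small hS.not_cyclic hsq hχ hne (by omega)
    rw [hC] at this
    omega
  have he : e = 2 ∨ e = 5 ∨ e = 10 := by
    have := Nat.le_of_dvd (by norm_num) hed
    interval_cases e <;> simp_all
  have hn8640 : n ∈ (Nat.divisors 8640).filter (fun n => n % 11 = 1) := Finset.mem_filter.2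
    ⟨Nat.mem_divisors.2 ⟨(Dvd.intro (e * c) (by rw [← mul_assoc]; exact hnec)).trans hm, by norm_num⟩, hn1⟩
  rw [show (Nat.divisors 8640).filter (fun n => n % 11 = 1) = {1, 12, 45, 144, 320, 540, 1728} by
    decide +kernel] at hn8640
  simp only [Finset.mem_insert, Finset.mem_singleton] at hn8640
  have hpos : 0 < e * n := Nat.mul_pos (by omega) (by omega)
  have hmec : m = e * n * c := by rw [← hnec]; ring
  have hcdiv : m / (e * n) = c := by rw [hmec, Nat.mul_div_cancel_left _ hpos]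
  have hone := option_check_one m hmb e (by simp; omega) n (by simp; omega) ⟨c, hmec⟩
  rw [hcdiv] at hone
  by_cases hc1 : c = 1
  · subst hc1
    rw [mul_one] at hC
    rcases hone rfl with rfl | ⟨rfl, rfl⟩ | ⟨rfl, rfl⟩
    · exact Or.inr (Or.inl hcard)
    · exact (not_order_11880 hS S hC).elim
    · exact (not_order_15840 hS S hC).elim
  exfalso
  rcases he with rfl | he
  · exact two_false hS S (hbig hc1)
  by_cases h2 : 2 ∣ c
  · obtain ⟨⟨z, hz⟩, hz2⟩ := exists_prime_orderOf_dvd_card' 2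
      (show 2 ∣ Nat.card (centralizer ((P : Subgroup S₀) : Set S₀)) from hC ▸ dvd_mul_of_dvd_right h2 11)
    rw [Subgroup.orderOf_mk] at hz2
    rcases he with rfl | rfl
    · exact five_even_false hS S hz hz2 (hbig hc1)
    · exact ten_even_false hS S hz hz2 (hbig hc1)
  have h11c : ¬ 11 ∣ c := fun h => hS.not_dvd (hmec ▸ dvd_mul_of_dvd_right h _)
  have hother := option_check_two m hmb e (by simp; omega) n (by simp; omega) ⟨c, hmec⟩
  rw [hcdiv] at hother
  rcases hother hc1 h2 with h12 | ⟨h144, hc3, h27⟩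
  · exact twelve_false hS S (hn ▸ h12) hC hc1 h11c h2
  · exact three_false hS S he (hc3 ▸ hC) (by rw [hmec, h144, hc3]; ring) h27

end Cfsg.Lib.MTwelveGraph
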