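import Cfsg.Agent.Lib.MTwelveGraph.Large

/-!
No simple group has order 11880 or 15840: the involutions inverting an element of order 11.
-/

set_option autoImplicit false
set_option linter.style.haveILetI false
set_option linter.unusedSectionVars false
set_option maxRecDepth 100000

namespace Cfsg.Lib.MTwelveGraph

open Cfsg Cfsg.Lib.Char Cfsg.Lib.Block Cfsg.Lib.MTwelveOrder
open Subgroup (centralizer zpowers normalizer)

universe u

local instance fact_eleven_special : Fact (Nat.Prime 11) := ⟨by norm_num⟩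
local instance fact_five_special : Fact (Nat.Prime 5) := ⟨by norm_num⟩

theorem two_degree_check : ∀ d ∈ List.range 50, ∀ f ∈ [d - 1, d + 1], 2 ≤ d → 2 ≤ f → d ∣ 1080 → f ∣ 1080 →
    ((d % 11 = 1 ∧ f = d + 1) ∨ ((d + 1) % 11 = 0 ∧ f + 1 = d)) → d = 10 ∧ f = 9 := by decide +kernel

theorem square_check : ∀ C ∈ List.range 100, C * C ∉ ([3072, 1728, 768, 192] : List ℕ) := by decide +kernel

theorem ten_degree_check : ∀ d ∈ List.range 126, ∀ s ∈ ([1, -1] : List ℤ), d ∣ 1440 → 2 ≤ d →
    (11 : ℤ) ∣ s * d - 1 → s * d ∈ ([-10, 12, -32, 45, -120] : List ℤ) := by decide +kernel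

theorem ten_count_check : ∀ a ∈ List.range 11, ∀ b ∈ List.range 11, ∀ c ∈ List.range 11, a + b + c = 10 →
    12 * (a : ℤ) - 32 * b + 45 * c = -1 → 1 + 144 * a + 1024 * b + 2025 * c ≤ 15840 → a = 2 ∧ b = 5 ∧ c = 3 := by
  decide +kernel

/-- The possible values at an involution centralising an element of order 5. -/
def uVals (C d : ℕ) : List ℤ :=
  ((List.range (2 * d)).map fun (i : ℕ) => (i : ℤ) - d).filter fun v =>
    decide (v * v ≤ (C : ℤ) ∧ ((d : ℤ) - v) % 4 = 0 ∧ ((15840 / C : ℕ) * v : ℤ) % (d : ℤ) = 0 ∧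
      (5 ∣ d → v % 5 = 0) ∧ v.natAbs < d)

/-- The sums and sums of squares of `k` values, the latter at most `C`. -/
def multi (C : ℕ) (V : List ℤ) : ℕ → List (ℤ × ℤ)
  | 0 => [(0, 0)]
  | k + 1 => ((multi C V k).flatMap fun r => V.filterMap fun v =>
      if r.2 + v * v ≤ (C : ℤ) then some (r.1 + v, r.2 + v * v) else none).dedup

theorem mem_multi {α : Type*} [DecidableEq α] (C : ℕ) (V : List ℤ) (v : α → ℤ) (s : Finset α)
    (hV : ∀ x ∈ s, v x ∈ V) (hq : ∑ x ∈ s, v x * v x ≤ (C : ℤ)) :
    (∑ x ∈ s, v x, ∑ x ∈ s, v x * v x) ∈ multi C V s.card := by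
  induction s using Finset.induction_on with
  | empty => simp [multi]
  | insert a s ha ih =>
    rw [Finset.sum_insert ha] at hq
    have ih' := ih (fun x hx => hV x (Finset.mem_insert_of_mem hx)) (by nlinarith [mul_self_nonneg (v a)])
    rw [Finset.card_insert_of_notMem ha]
    refine List.mem_dedup.2 (List.mem_flatMap.2 ⟨_, ih', List.mem_filterMap.2
      ⟨v a, hV a (Finset.mem_insert_self a s), ?_⟩⟩)
    rw [Finset.sum_insert ha, Finset.sum_insert ha, if_pos (by simp only; linarith)]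
    simp only [Option.some.injEq, Prod.mk.injEq]
    exact ⟨add_comm _ _, add_comm _ _⟩

theorem ten_involution_check : ∀ C ∈ (Nat.divisors 1440).filter (fun C => 10 ∣ C),
    ∀ A ∈ multi C (uVals C 12) 2, ∀ B ∈ multi C (uVals C 32) 5, 1 + A.2 + B.2 ≤ (C : ℤ) →
      ∀ D ∈ multi C (uVals C 45) 3, 1 + A.2 + B.2 + D.2 ≤ (C : ℤ) → 1 + A.1 - B.1 + D.1 ≠ 0 := by
  decide +kernel

variable {G : Type u} [Group G] [Fintype G]

theorem conj_zpow_left (a b : G) (i : ℤ) : (a⁻¹ * b * a) ^ i = a⁻¹ * b ^ i * a := by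
  have h := conj_zpow (a := a⁻¹) (b := b) (i := i)
  rwa [inv_inv] at h

/-- An element normalising the group generated by `x` moves it to a power. -/
theorem exists_pow_conj {x g : G} {P : Subgroup G} (hP : zpowers x = P) (hg : g ∈ normalizer (P : Set G)) :
    ∃ i : ℤ, g * x * g⁻¹ = x ^ i := by
  have h := (Subgroup.mem_normalizer_iff.1 hg x).1 (hP ▸ Subgroup.mem_zpowers x)
  rw [← hP, Subgroup.mem_zpowers_iff] at h
  obtain ⟨i, hi⟩ := h
  exact ⟨i, hi.symm⟩

variable {P : Sylow 11 G} {e : ℕ}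

theorem exists_generator (S : Small.Shape P e) : ∃ x ∈ (P : Subgroup G), x ≠ 1 ∧ orderOf x = 11 ∧
    zpowers x = (P : Subgroup G) := by
  haveI : Nontrivial (P : Subgroup G) := by
    rw [← Finite.one_lt_card_iff_nontrivial, S.card_P]; norm_num
  obtain ⟨⟨x, hx⟩, hx1'⟩ := exists_ne (1 : (P : Subgroup G))
  have hx1 : x ≠ 1 := fun h => hx1' (Subtype.ext h)
  have h := Small.zpowers_eq_of_prime_card S.card_P hx hx1
  exact ⟨x, hx, hx1, by rw [← Nat.card_zpowers, h, S.card_P], h⟩

theorem card_normalizer (S : Small.Shape P e)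
    (hC : Nat.card (centralizer ((P : Subgroup G) : Set G)) = 11) :
    Nat.card (normalizer ((P : Subgroup G) : Set G)) = e * 11 := by
  have h := Subgroup.index_mul_card ((centralizer ((P : Subgroup G) : Set G)).subgroupOf
    (normalizer ((P : Subgroup G) : Set G)))
  rw [Nat.card_congr (Subgroup.subgroupOfEquivOfLe (Subgroup.centralizer_le_normalizer _)).toEquiv, hC] at h
  rw [← h]
  exact congrArg (· * 11) S.relIndex_eq

theorem not_order_11880 (hS : ElevenM G 1080) (S : Small.Shape P 2)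
    (hC : Nat.card (centralizer ((P : Subgroup G) : Set G)) = 11) : False := by
  classical
  haveI := hS.simple
  obtain ⟨χ, hχX, hne, hX, hZ, hθ1, hd2, hf2, hdd, hfd, hdf, hsum⟩ :=
    S.two_cases hS.not_cyclic hS.card rfl (by norm_num)
  rw [hS.card] at hsum
  norm_num at hsum
  have hdeg : cdeg χ = 10 ∧ cdeg S.θ = 9 := by
    refine two_degree_check (cdeg χ) (List.mem_range.2 ?_) (cdeg S.θ) ?_ hd2 hf2 hdd hfd ?_
    · by_contra hn
      have e1 := Nat.pow_le_pow_left (not_lt.1 hn) 2
      have e2 := Nat.pow_le_pow_left (show 49 ≤ cdeg S.θ by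
        rcases hdf with ⟨-, -, -, h⟩ | ⟨-, -, -, h⟩ <;> omega) 2
      norm_num at e1 e2
      linarith
    · rcases hdf with ⟨-, -, -, h⟩ | ⟨-, -, -, h⟩ <;> simp <;> omega
    · rcases hdf with ⟨-, -, h', h⟩ | ⟨-, -, h', h⟩
      · exact Or.inl ⟨h', h⟩
      · exact Or.inr ⟨h', h⟩
  obtain ⟨hd, hf⟩ := hdeg
  obtain ⟨hσχ, hσθ⟩ : S.σ χ = -1 ∧ S.σ S.θ = 1 := by
    rcases hdf with ⟨-, -, h', h⟩ | ⟨h1, h2, -, -⟩
    · rw [hd] at h'; norm_num at h'
    · exact ⟨h1, h2⟩
  obtain ⟨x, hx, hx1, hxo, hP⟩ := exists_generator S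
  have hCP : centralizer ((P : Subgroup G) : Set G) = (P : Subgroup G) :=
    (Subgroup.eq_of_le_of_card_ge (Block.le_centralizer_self S.card_P) (by rw [hC, S.card_P])).symm
  obtain ⟨⟨u, huN⟩, hu'⟩ := exists_prime_orderOf_dvd_card' (G := normalizer ((P : Subgroup G) : Set G)) 2
    (by rw [card_normalizer S hC]; norm_num)
  have hu : orderOf u = 2 := by rwa [Subgroup.orderOf_mk] at hu'
  have huu : u * u = 1 := by rw [← pow_two, ← hu, pow_orderOf_eq_one]
  have huinv : u⁻¹ = u := inv_eq_of_mul_eq_one_right huu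
  obtain ⟨i, hi⟩ := exists_pow_conj hP huN
  have hinv : u * x * u⁻¹ = x⁻¹ := by
    have h2 : x ^ (i * i) = x ^ (1 : ℤ) := by
      rw [zpow_one, zpow_mul, ← hi, conj_zpow, ← hi, huinv]
      calc u * (u * x * u) * u = (u * u) * x * (u * u) := by group
        _ = x := by rw [huu, one_mul, mul_one]
    rw [zpow_eq_zpow_iff_modEq, hxo] at h2
    have h11 : (11 : ℤ) ∣ (i - 1) * (i + 1) := by
      have := Int.modEq_iff_dvd.1 h2.symm
      rw [show (i - 1) * (i + 1) = i * i - 1 by ring]
      exact_mod_cast this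
    rcases (Nat.prime_iff_prime_int.1 (by norm_num : Nat.Prime 11)).dvd_mul.1 h11 with h | h
    · exfalso
      have e1 : u * x * u⁻¹ = x := by
        rw [hi]
        conv_rhs => rw [← zpow_one x]
        rw [zpow_eq_zpow_iff_modEq, hxo]
        exact (Int.modEq_iff_dvd.2 (by exact_mod_cast h)).symm
      have huC : u ∈ centralizer ((P : Subgroup G) : Set G) := by
        rw [← hP, Small.centralizer_zpowers]
        exact Subgroup.mem_centralizer_singleton_iff.2 (mul_inv_eq_iff_eq_mul.1 e1)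
      have := Subgroup.orderOf_dvd_natCard _ huC
      rw [hC, hu] at this
      norm_num at this
    · rw [hi, ← zpow_neg_one, zpow_eq_zpow_iff_modEq, hxo]
      exact (Int.modEq_iff_dvd.2 (by exact_mod_cast h)).symm
  -- the pairs of conjugates of the involution with product x
  have hflip : ∀ k : ℕ, u * x ^ k = (x ^ k)⁻¹ * u := fun k => by
    have h : u * x ^ k * u⁻¹ = (x ^ k)⁻¹ := by rw [← conj_pow, hinv, inv_pow]
    exact mul_inv_eq_iff_eq_mul.1 h
  have hclass : ∀ k : ℕ, x ^ k * u ∈ classFinset u := by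
    intro k
    rw [mem_classFinset, isConj_iff]
    refine ⟨x ^ (6 * k), ?_⟩
    have h11 : x ^ (11 * k) = 1 := by rw [pow_mul, ← hxo, pow_orderOf_eq_one, one_pow]
    have : u * (x ^ (6 * k))⁻¹ = x ^ (6 * k) * u := by
      have h := hflip (6 * k)
      rw [eq_inv_mul_iff_mul_eq] at h
      rw [mul_inv_eq_iff_eq_mul, mul_assoc, hflip, mul_inv_cancel_left]
    rw [mul_assoc, this, ← mul_assoc, ← pow_add,
      show 6 * k + 6 * k = 11 * k + k by ring, pow_add, h11, one_mul]
  set F := (classFinset u ×ˢ classFinset u).filter fun q => q.1 * q.2 = x with hF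
  have hFcard : F.card = 11 := by
    have e : F = (Finset.range 11).image (fun k => (x ^ k * u, u * (x ^ k)⁻¹ * x)) := by
      ext ⟨a, b⟩
      simp only [hF, Finset.mem_filter, Finset.mem_product, Finset.mem_image, Finset.mem_range, Prod.mk.injEq]
      constructor
      · rintro ⟨⟨ha, hb⟩, hab⟩
        rw [mem_classFinset] at ha hb
        have h2 : ∀ {w}, IsConj u w → w⁻¹ = w := fun {w} h => by
          obtain ⟨c, hc⟩ := isConj_iff.1 h
          rw [← hc, mul_inv_rev, mul_inv_rev, huinv, inv_inv, mul_assoc]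
        have hax : a * x * a⁻¹ = x⁻¹ := by
          rw [← hab, mul_inv_rev, h2 hb, h2 ha, ← mul_assoc, show a * a = 1 by
            conv_lhs => rw [← h2 ha]
            rw [h2 ha]
            nth_rewrite 1 [← h2 ha]
            exact inv_mul_cancel a, one_mul]
        have hau : a * u ∈ (P : Subgroup G) := by
          rw [← hCP, ← hP, Small.centralizer_zpowers]
          refine Subgroup.mem_centralizer_singleton_iff.2 (mul_inv_eq_iff_eq_mul.1 ?_)
          calc a * u * x * (a * u)⁻¹ = a * (u * x * u⁻¹) * a⁻¹ := by group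
            _ = (a * x * a⁻¹)⁻¹ := by rw [hinv]; group
            _ = x := by rw [hax, inv_inv]
        rw [← hP] at hau
        obtain ⟨k, hk, hka⟩ : ∃ k < 11, x ^ k = a * u := by
          obtain ⟨k, hk⟩ := mem_powers_iff_mem_zpowers.2 hau
          exact ⟨k % 11, Nat.mod_lt _ (by norm_num), by rw [← hk, ← hxo, pow_mod_orderOf]⟩
        have ea : x ^ k * u = a := by rw [hka, mul_assoc, huu, mul_one]
        refine ⟨k, hk, ea, ?_⟩
        calc u * (x ^ k)⁻¹ * x = (x ^ k * u)⁻¹ * x := by rw [mul_inv_rev, huinv]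
          _ = a⁻¹ * (a * b) := by rw [ea, hab]
          _ = b := inv_mul_cancel_left a b
      · rintro ⟨k, -, rfl, rfl⟩
        refine ⟨⟨hclass k, ?_⟩, ?_⟩
        · have e : u * (x ^ k)⁻¹ * x = (x ^ k * x⁻¹) * u := by
            have h1 : u * (x ^ k)⁻¹ = x ^ k * u := by
              rw [mul_inv_eq_iff_eq_mul, mul_assoc, hflip, mul_inv_cancel_left]
            have h2 : u * x = x⁻¹ * u := by simpa using hflip 1
            rw [h1, mul_assoc, h2, mul_assoc]
          rw [e, show x ^ k * x⁻¹ = x ^ (k + 10) by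
            rw [mul_inv_eq_iff_eq_mul, ← pow_succ, show k + 10 + 1 = k + 11 by ring, pow_add, ← hxo,
              pow_orderOf_eq_one, mul_one]]
          exact hclass _
        · calc x ^ k * u * (u * (x ^ k)⁻¹ * x) = x ^ k * (u * u) * (x ^ k)⁻¹ * x := by group
            _ = x := by rw [huu, mul_one, mul_inv_cancel, one_mul]
    rw [e, Finset.card_image_of_injOn, Finset.card_range]
    intro a ha b hb hab
    simp only [Prod.mk.injEq, mul_left_inj] at hab
    exact pow_injOn_Iio_orderOf (by rw [Set.mem_Iio, hxo]; exact Finset.mem_range.1 ha)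
      (by rw [Set.mem_Iio, hxo]; exact Finset.mem_range.1 hb) hab.1
  have hreg : ¬ 11 ∣ orderOf u := by rw [hu]; norm_num
  have hform := S.formula hC hreg hreg hx hx1
  rw [← hF, hFcard, card_classFinset, hZ, Finset.sum_insert (by
      simp only [Finset.mem_insert, Finset.mem_singleton, not_or]
      exact ⟨hθ1, fun e => S.θ_notMem (e ▸ hχX)⟩),
    Finset.sum_insert (by simpa using hne.symm), Finset.sum_singleton, S.sign_one, hσχ, hσθ,
    apply_one, apply_one χ, hd, hf, show ((Small.one' G : IrrCharacter G) : G → ℂ) u = 1 from rfl,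
    show ((Small.one' G : IrrCharacter G) : G → ℂ) 1 = 1 from rfl] at hform
  obtain ⟨v, hv, hv4, hvle⟩ := involution_value hS.perfect S.θ hu
  obtain ⟨a, ha, -, -⟩ := involution_value hS.perfect χ hu
  have hu1 : u ≠ 1 := fun e => by rw [e, orderOf_one] at hu; norm_num at hu
  have hvlt := natAbs_lt_deg hS.not_cyclic hθ1 hu1 hv hvle
  rw [hf] at hv4 hvlt
  have hrel := S.rel u hreg
  rw [hZ, Finset.sum_insert (by
      simp only [Finset.mem_insert, Finset.mem_singleton, not_or]
      exact ⟨hθ1, fun e => S.θ_notMem (e ▸ hχX)⟩),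
    Finset.sum_insert (by simpa using hne.symm), Finset.sum_singleton, S.sign_one, hσχ, hσθ, hv, ha,
    show ((Small.one' G : IrrCharacter G) : G → ℂ) u = 1 from rfl] at hrel
  have hav : a = v + 1 := by
    have : v + (1 + -a) = 0 := by
      apply Int.cast_injective (α := ℂ)
      push_cast at hrel ⊢
      linear_combination hrel
    omega
  have hI := Subgroup.card_mul_index (centralizer ({u} : Set G))
  rw [hS.card] at hI
  set C := Nat.card (centralizer ({u} : Set G))
  set I := (centralizer ({u} : Set G)).index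
  have hint : (11 * 90 : ℤ) * (11880 : ℤ) = (I : ℤ) * I * (90 + 10 * v * v - 9 * (a * a)) := by
    rw [hv, ha, hS.card] at hform
    apply Int.cast_injective (α := ℂ)
    push_cast at hform ⊢
    linear_combination (11880 * 90 : ℂ) * hform
  have hI' : (C : ℤ) * I = 11880 := by exact_mod_cast hI
  have hC2 : (C : ℤ) * C = 1080 - 108 * (a * a) + 120 * (v * v) := by
    have h := congrArg (· * ((C : ℤ) * C)) hint
    rw [show (I : ℤ) * I * (90 + 10 * v * v - 9 * (a * a)) * ((C : ℤ) * C) =
      ((C : ℤ) * I) * ((C : ℤ) * I) * (90 + 10 * v * v - 9 * (a * a)) by ring, hI'] at h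
    linarith
  have hvv : v = -7 ∨ v = -3 ∨ v = 1 ∨ v = 5 := by omega
  have hC' : C * C ∈ ([3072, 1728, 768, 192] : List ℕ) := by
    have : ((C * C : ℕ) : ℤ) ∈ ([3072, 1728, 768, 192] : List ℤ) := by
      push_cast
      rw [hC2, hav]
      rcases hvv with rfl | rfl | rfl | rfl <;> norm_num
    simp only [List.mem_cons, List.not_mem_nil, or_false] at this ⊢
    omega
  have hC100 : C < 100 := by
    by_contra hn
    have := Nat.mul_le_mul (not_lt.1 hn) (not_lt.1 hn)
    simp only [List.mem_cons, List.not_mem_nil, or_false] at hC'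
    omega
  exact square_check C (List.mem_range.2 hC100) hC'

theorem not_order_15840 (hS : ElevenM G 1440) (S : Small.Shape P 10)
    (hC : Nat.card (centralizer ((P : Subgroup G) : Set G)) = 11) : False := by
  classical
  haveI := hS.simple
  obtain ⟨x, hx, hx1, hxo, hP⟩ := exists_generator S
  have hCP : centralizer ((P : Subgroup G) : Set G) = (P : Subgroup G) :=
    (Subgroup.eq_of_le_of_card_ge (Block.le_centralizer_self S.card_P) (by rw [hC, S.card_P])).symm
  set N := normalizer ((P : Subgroup G) : Set G) with hN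
  have hN110 : Nat.card N = 110 := card_normalizer S hC
  obtain ⟨u', hu'⟩ := exists_prime_orderOf_dvd_card' (G := N) 2 (by rw [hN110]; norm_num)
  set u : G := (u' : G) with hudef
  have hu : orderOf u = 2 := by rw [hudef, Subgroup.orderOf_coe, hu']
  -- commutators with the involution centralise x
  have hcomm : ∀ g : N, (g : G) * u * (g : G)⁻¹ * u⁻¹ ∈ (P : Subgroup G) := by
    intro g
    rw [← hCP, ← hP, Small.centralizer_zpowers]
    refine Subgroup.mem_centralizer_singleton_iff.2 (mul_inv_eq_iff_eq_mul.1 ?_)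
    obtain ⟨i, hi⟩ := exists_pow_conj hP g.2
    obtain ⟨j, hj⟩ := exists_pow_conj hP u'.2
    obtain ⟨i', hi'⟩ := exists_pow_conj hP (inv_mem g.2)
    obtain ⟨j', hj'⟩ := exists_pow_conj hP (inv_mem u'.2)
    rw [inv_inv] at hi' hj'
    have ii : x ^ (i' * i) = x := by
      rw [zpow_mul, ← hi', conj_zpow_left]
      rw [show (g : G)⁻¹ * x ^ i * (g : G) = (g : G)⁻¹ * ((g : G) * x * (g : G)⁻¹) * g by rw [hi]]
      group
    have jj : x ^ (j' * j) = x := by
      rw [zpow_mul, ← hj', conj_zpow_left]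
      rw [show (u : G)⁻¹ * x ^ j * u = u⁻¹ * (u * x * u⁻¹) * u by rw [hj]]
      group
    calc (g : G) * u * (g : G)⁻¹ * u⁻¹ * x * ((g : G) * u * (g : G)⁻¹ * u⁻¹)⁻¹
        = g * (u * ((g : G)⁻¹ * (u⁻¹ * x * u) * g) * u⁻¹) * (g : G)⁻¹ := by group
      _ = x ^ (j' * i' * j * i) := by
        rw [hj', show (g : G)⁻¹ * x ^ j' * g = x ^ (i' * j') by
          rw [zpow_mul, ← hi', conj_zpow_left],
          show u * x ^ (i' * j') * u⁻¹ = x ^ (j * (i' * j')) by rw [zpow_mul x j, ← hj, conj_zpow],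
          show (g : G) * x ^ (j * (i' * j')) * (g : G)⁻¹ = x ^ (i * (j * (i' * j'))) by
            rw [zpow_mul x i, ← hi, conj_zpow]]
        congr 1
        ring
      _ = x := by rw [show j' * i' * j * i = (j' * j) * (i' * i) by ring, zpow_mul, jj, ii]
  obtain ⟨y, hy, hyu⟩ : ∃ y : G, orderOf y = 5 ∧ Commute y u := by
    set D := centralizer ({u'} : Set N) with hD
    let f : N ⧸ D → (P : Subgroup G) := fun q => ⟨_, hcomm q.out⟩
    have hf : Function.Injective f := by
      intro q r hqr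
      have h := congrArg Subtype.val hqr
      simp only [f, mul_left_inj] at h
      rw [← QuotientGroup.out_eq' q, ← QuotientGroup.out_eq' r, QuotientGroup.eq]
      refine (Subgroup.mem_centralizer_singleton_iff (G := N)).2 (Subtype.ext ?_)
      show ((q.out : G))⁻¹ * r.out * u = u * ((q.out : G)⁻¹ * r.out)
      calc ((q.out : G))⁻¹ * r.out * u = (q.out : G)⁻¹ * (r.out * u * (r.out : G)⁻¹) * r.out := by group
        _ = (q.out : G)⁻¹ * (q.out * u * (q.out : G)⁻¹) * r.out := by rw [h]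
        _ = _ := by group
    have hle := Nat.card_le_card_of_injective f hf
    rw [S.card_P] at hle
    have hcm := Subgroup.card_mul_index D
    rw [hN110, show D.index = Nat.card (N ⧸ D) from rfl] at hcm
    have h10 : 10 ≤ Nat.card D := by nlinarith [Nat.card_pos (α := D)]
    have hd := Subgroup.card_subgroup_dvd_card D
    rw [hN110] at hd
    have h11 : ¬ 11 ∣ Nat.card D := by
      intro h
      obtain ⟨⟨⟨w, hwN⟩, hwD⟩, hw⟩ := exists_prime_orderOf_dvd_card' (G := D) 11 h
      rw [Subgroup.orderOf_mk, Subgroup.orderOf_mk] at hw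
      have hwu : Commute w u := congrArg Subtype.val (Subgroup.mem_centralizer_singleton_iff.1 hwD)
      obtain ⟨Q, hQ⟩ := Small.exists_sylow_eq_zpowers hS.card_sylow hw
      have hwP : zpowers w = (P : Subgroup G) := by
        have hwN' : zpowers w ≤ N := Subgroup.zpowers_le.2 hwN
        have hp : IsPGroup 11 (zpowers w ⊔ (P : Subgroup G) : Subgroup G) :=
          IsPGroup.to_sup_of_normal_right' (IsPGroup.of_card (n := 1) (by rw [Nat.card_zpowers, hw, pow_one]))
            P.isPGroup' hwN'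
        have e2 := P.is_maximal' hp le_sup_right
        have : zpowers w ≤ (P : Subgroup G) := e2 ▸ le_sup_left
        exact Subgroup.eq_of_le_of_card_ge this (by rw [S.card_P, Nat.card_zpowers, hw])
      have huC : u ∈ centralizer ((P : Subgroup G) : Set G) := by
        rw [← hwP, Small.centralizer_zpowers]
        exact Subgroup.mem_centralizer_singleton_iff.2 hwu.symm.eq
      have := Subgroup.orderOf_dvd_natCard _ huC
      rw [hC, hu] at this
      norm_num at this
    have h5 : 5 ∣ Nat.card D := by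
      have hdm : Nat.card D ∈ Nat.divisors 110 := Nat.mem_divisors.2 ⟨hd, by norm_num⟩
      rw [show Nat.divisors 110 = {1, 2, 5, 10, 11, 22, 55, 110} by decide +kernel] at hdm
      simp only [Finset.mem_insert, Finset.mem_singleton] at hdm
      omega
    obtain ⟨⟨⟨y, hyN⟩, hyD⟩, hy⟩ := exists_prime_orderOf_dvd_card' (G := D) 5 h5
    rw [Subgroup.orderOf_mk, Subgroup.orderOf_mk] at hy
    exact ⟨y, hy, congrArg Subtype.val (Subgroup.mem_centralizer_singleton_iff.1 hyD)⟩
  have hu1 : u ≠ 1 := fun e => by rw [e, orderOf_one] at hu; norm_num at hu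
  have hreg : ¬ 11 ∣ orderOf u := by rw [hu]; norm_num
  have hfact : (Nat.card G).factorization 5 = 1 := by
    rw [hS.card, show (11 * 1440 : ℕ) = 5 ^ 1 * 3168 by norm_num, Nat.factorization_mul (by norm_num) (by norm_num),
      Nat.Prime.factorization_pow (by norm_num), Finsupp.add_apply, Finsupp.single_eq_same,
      Nat.factorization_eq_zero_of_not_dvd (by norm_num : ¬ 5 ∣ 3168)]
  choose v hv using fun χ : IrrCharacter G => involution_value hS.perfect χ hu
  have hfive : ∀ χ : IrrCharacter G, 5 ∣ cdeg χ → (5 : ℤ) ∣ v χ := by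
    intro χ h
    haveI := Fintype.ofFinite (zpowers y)
    have hd : (cdeg χ).factorization 5 = (Nat.card G).factorization 5 := by
      rw [hfact]
      refine le_antisymm ?_ (((Fact.out : Nat.Prime 5).dvd_iff_one_le_factorization (Block.charDegree_pos χ).ne').1 h)
      rw [← hfact]
      exact (Nat.factorization_le_iff_dvd (Block.charDegree_pos χ).ne' (Nat.card_pos (α := G)).ne').2
        (Block.charDegree_dvd_card χ) 5
    have := MEleven.dvd_value χ (x := u) (zpowers y) (fun w hw => by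
        obtain ⟨j, rfl⟩ := Subgroup.mem_zpowers_iff.1 hw
        exact ((hyu.zpow_left j).symm).eq) (fun w hw hw1 => ?_) (hv χ).1
    · rwa [Nat.card_zpowers, hy] at this
    · refine MEleven.apply_eq_zero_of_defectZero χ hd ?_
      obtain ⟨j, rfl⟩ := Subgroup.mem_zpowers_iff.1 hw
      have hj : orderOf (y ^ j) = 5 := by
        have hd5 := Subgroup.orderOf_dvd_natCard _ hw
        rw [Nat.card_zpowers, hy] at hd5
        rcases (Nat.dvd_prime (by norm_num)).1 hd5 with e | e
        · exact absurd (orderOf_eq_one_iff.1 e) hw1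
        · exact e
      rw [(hyu.zpow_left j).symm.orderOf_mul_eq_mul_orderOf_of_coprime (by rw [hu, hj]; norm_num), hu, hj]
      norm_num
  have hCI := Subgroup.card_mul_index (centralizer ({u} : Set G))
  rw [hS.card] at hCI
  set C := Nat.card (centralizer ({u} : Set G)) with hCdef
  set I := (centralizer ({u} : Set G)).index
  have hIC : 15840 / C = I := by
    rw [show (15840 : ℕ) = C * I by omega, Nat.mul_div_cancel_left _ Nat.card_pos]
  have h10 : 10 ∣ C := Nat.Coprime.mul_dvd_of_dvd_of_dvd (by norm_num : Nat.Coprime 2 5)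
    (hu ▸ Subgroup.orderOf_dvd_natCard _ (Subgroup.mem_centralizer_singleton_iff.2 rfl))
    (hy ▸ Subgroup.orderOf_dvd_natCard _ (Subgroup.mem_centralizer_singleton_iff.2 hyu.eq))
  set T := S.Z.erase (Small.one' G) with hT
  have hTne : ∀ χ ∈ T, χ ≠ Small.one' G ∧ χ ∈ S.Z := fun χ h => Finset.mem_erase.1 h
  have hTcard : T.card = 10 := by
    rw [hT, Finset.card_erase_of_mem S.one_mem, S.Z_eq, Finset.card_insert_of_notMem S.θ_notMem, S.card_X]
  have hθY : S.θ ∈ S.Y := S.θ_mem
  have hsqall : ∑ χ ∈ S.Z, (cdeg χ : ℤ) ^ 2 ≤ 15840 := by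
    have h := MEleven.sum_sq_deg_le S.Z
    rw [hS.card] at h
    exact_mod_cast h
  rw [← Finset.add_sum_erase _ _ S.one_mem, ← hT, Small.charDegree_one'] at hsqall
  have hval : ∀ χ ∈ T, S.σ χ * (cdeg χ : ℤ) ∈ ([-10, 12, -32, 45, -120] : List ℤ) := fun χ h => by
    refine ten_degree_check (cdeg χ) (List.mem_range.2 ?_) _ ?_ (S.deg_dvd hS.card (hTne χ h).2)
      (Small.two_le_charDegree hS.not_cyclic (hTne χ h).1)
      (Int.modEq_iff_dvd.1 (S.cong_all (by norm_num) (hTne χ h).2).symm)
    · have h1 : (cdeg χ : ℤ) ^ 2 ≤ ∑ φ ∈ T, (cdeg φ : ℤ) ^ 2 :=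
        Finset.single_le_sum (f := fun φ => (cdeg φ : ℤ) ^ 2) (fun _ _ => sq_nonneg _) h
      push_cast at hsqall
      nlinarith
    · rcases S.sign χ (hTne χ h).2 with e | e <;> simp [e]
  have habs : ∀ χ ∈ T, ∀ k : ℤ, S.σ χ * (cdeg χ : ℤ) = k → cdeg χ = k.natAbs ∧ S.σ χ = if 0 < k then 1 else -1 := fun χ h k hk => by
    have hpos := Block.charDegree_pos χ
    rcases S.sign χ (hTne χ h).2 with e | e <;> rw [e] at hk ⊢
    · exact ⟨by omega, by rw [if_pos (by omega)]⟩
    · exact ⟨by omega, by rw [if_neg (by omega)]⟩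
  have hmem : ∀ χ ∈ T, ∀ k : ℤ, S.σ χ * (cdeg χ : ℤ) = k → v χ ∈ uVals C k.natAbs := by
    intro χ h k hk
    obtain ⟨hd, -⟩ := habs χ h k hk
    rw [← hd]
    obtain ⟨h4, hle⟩ := (hv χ).2
    have hlt := natAbs_lt_deg hS.not_cyclic (hTne χ h).1 hu1 (hv χ).1 hle
    have hsq := sum_sq_le ({χ} : Finset (IrrCharacter G)) u
    rw [Finset.sum_singleton, (hv χ).1, Complex.norm_intCast, sq_abs, ← hCdef] at hsq
    have hsq' : v χ * v χ ≤ (C : ℤ) := by rw [← pow_two]; exact_mod_cast hsq
    have hdvd := deg_dvd_class_mul χ (hv χ).1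
    simp only [uVals, List.mem_filter, List.mem_map, List.mem_range, decide_eq_true_eq]
    refine ⟨⟨(v χ + cdeg χ).toNat, by omega, by omega⟩, hsq', Int.emod_eq_zero_of_dvd h4, ?_, ?_, hlt⟩
    · rw [hIC]; exact Int.emod_eq_zero_of_dvd hdvd
    · exact fun h5 => Int.emod_eq_zero_of_dvd (hfive χ h5)
  have h10no : ∀ χ ∈ T, S.σ χ * (cdeg χ : ℤ) ≠ -10 := by
    intro χ h e
    obtain ⟨hd, -⟩ := habs χ h _ e
    have := hmem χ h _ e
    simp only [uVals, List.mem_filter, List.mem_map, List.mem_range, decide_eq_true_eq] at this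
    obtain ⟨-, -, h4, -, h5, hlt⟩ := this
    have := h5 (by norm_num)
    norm_num at h4 hlt
    omega
  have hrel := S.rel_deg
  rw [← Finset.add_sum_erase _ _ S.one_mem, S.sign_one, Small.charDegree_one', ← hT] at hrel
  have h120 : ∀ χ ∈ T, S.σ χ * (cdeg χ : ℤ) ≠ -120 := by
    intro χ h e
    obtain ⟨hd, -⟩ := habs χ h _ e
    rw [← Finset.add_sum_erase _ _ h] at hrel hsqall
    rw [hd] at hsqall
    rw [e] at hrel
    norm_num at hsqall
    have hle : ∀ φ ∈ T.erase χ, S.σ φ * (cdeg φ : ℤ) ≤ 12 := by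
      intro φ hφ
      have hφT := Finset.mem_of_mem_erase hφ
      have h1 : (cdeg φ : ℤ) ^ 2 ≤ ∑ ψ ∈ T.erase χ, (cdeg ψ : ℤ) ^ 2 :=
        Finset.single_le_sum (f := fun ψ => (cdeg ψ : ℤ) ^ 2) (fun _ _ => sq_nonneg _) hφ
      have := hval φ hφT
      simp only [List.mem_cons, List.not_mem_nil, or_false] at this
      rcases this with e' | e' | e' | e' | e' <;> rw [e'] <;>
        first | (norm_num; done) | (obtain ⟨hd', -⟩ := habs φ hφT _ e'; rw [hd'] at h1; norm_num at h1; linarith)
    have := Finset.sum_le_sum hle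
    rw [Finset.sum_const, Finset.card_erase_of_mem h, hTcard] at this
    norm_num at this
    push_cast at hrel
    linarith
  set A := T.filter fun χ => S.σ χ * (cdeg χ : ℤ) = 12 with hA
  set B := T.filter fun χ => S.σ χ * (cdeg χ : ℤ) = -32 with hB
  set D := T.filter fun χ => S.σ χ * (cdeg χ : ℤ) = 45 with hD
  have hsplit : ∀ f : IrrCharacter G → ℤ, ∑ χ ∈ T, f χ = ∑ χ ∈ A, f χ + ∑ χ ∈ B, f χ + ∑ χ ∈ D, f χ := by
    intro f
    rw [hA, hB, hD, Finset.sum_filter, Finset.sum_filter, Finset.sum_filter, ← Finset.sum_add_distrib,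
      ← Finset.sum_add_distrib]
    refine Finset.sum_congr rfl fun χ h => ?_
    have := hval χ h
    simp only [List.mem_cons, List.not_mem_nil, or_false] at this
    rcases this with e | e | e | e | e
    · exact absurd e (h10no χ h)
    rotate_right
    · exact absurd e (h120 χ h)
    all_goals simp [e]
  have hcA : ∀ χ ∈ A, cdeg χ = 12 ∧ S.σ χ = 1 := fun χ h => by
    obtain ⟨hT', e⟩ := Finset.mem_filter.1 h
    simpa using habs χ hT' _ e
  have hcB : ∀ χ ∈ B, cdeg χ = 32 ∧ S.σ χ = -1 := fun χ h => by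
    obtain ⟨hT', e⟩ := Finset.mem_filter.1 h
    simpa using habs χ hT' _ e
  have hcD : ∀ χ ∈ D, cdeg χ = 45 ∧ S.σ χ = 1 := fun χ h => by
    obtain ⟨hT', e⟩ := Finset.mem_filter.1 h
    simpa using habs χ hT' _ e
  have hcount : A.card = 2 ∧ B.card = 5 ∧ D.card = 3 := by
    have e0 := hsplit fun _ => 1
    simp only [Finset.sum_const, nsmul_one, hTcard] at e0
    rw [hsplit, Finset.sum_congr (rfl : A = A) (g := fun _ => (12 : ℤ)) fun χ h => (Finset.mem_filter.1 h).2,
      Finset.sum_congr (rfl : B = B) (g := fun _ => (-32 : ℤ)) fun χ h => (Finset.mem_filter.1 h).2,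
      Finset.sum_congr (rfl : D = D) (g := fun _ => (45 : ℤ)) fun χ h => (Finset.mem_filter.1 h).2] at hrel
    rw [hsplit, Finset.sum_congr (rfl : A = A) (g := fun _ => (144 : ℤ)) fun χ h => by rw [(hcA χ h).1]; norm_num,
      Finset.sum_congr (rfl : B = B) (g := fun _ => (1024 : ℤ)) fun χ h => by rw [(hcB χ h).1]; norm_num,
      Finset.sum_congr (rfl : D = D) (g := fun _ => (2025 : ℤ)) fun χ h => by rw [(hcD χ h).1]; norm_num] at hsqall
    simp only [Finset.sum_const, nsmul_eq_mul] at hrel hsqall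
    push_cast at hrel hsqall e0
    exact ten_count_check A.card (List.mem_range.2 (by omega)) B.card (List.mem_range.2 (by omega))
      D.card (List.mem_range.2 (by omega)) (by omega) (by linarith) (by omega)
  have hall : (∑ χ ∈ T, v χ ^ 2) + 1 ≤ (C : ℤ) := by
    have h := sum_sq_le S.Z u
    rw [← Finset.add_sum_erase _ _ S.one_mem, ← hT, show ((Small.one' G : IrrCharacter G) : G → ℂ) u = 1 from rfl,
      Finset.sum_congr rfl (g := fun χ => ((v χ ^ 2 : ℤ) : ℝ)) fun χ _ => by
        rw [(hv χ).1, Complex.norm_intCast, sq_abs]; push_cast; rfl, ← hCdef, norm_one, one_pow,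
      ← Int.cast_sum] at h
    have : ((∑ χ ∈ T, v χ ^ 2) + 1 : ℤ) ≤ (C : ℤ) := by
      apply (Int.cast_le (R := ℝ)).1
      push_cast at h ⊢
      linarith
    exact this
  simp only [pow_two] at hall
  rw [hsplit] at hall
  have hA0 : 0 ≤ ∑ χ ∈ A, v χ * v χ := Finset.sum_nonneg fun _ _ => mul_self_nonneg _
  have hB0 : 0 ≤ ∑ χ ∈ B, v χ * v χ := Finset.sum_nonneg fun _ _ => mul_self_nonneg _
  have hD0 : 0 ≤ ∑ χ ∈ D, v χ * v χ := Finset.sum_nonneg fun _ _ => mul_self_nonneg _
  have mA := mem_multi C (uVals C 12) v A (fun χ h => hmem χ (Finset.mem_filter.1 h).1 12 (Finset.mem_filter.1 h).2)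
    (by linarith)
  have mB := mem_multi C (uVals C 32) v B (fun χ h => hmem χ (Finset.mem_filter.1 h).1 (-32) (Finset.mem_filter.1 h).2)
    (by linarith)
  have mD := mem_multi C (uVals C 45) v D (fun χ h => hmem χ (Finset.mem_filter.1 h).1 45 (Finset.mem_filter.1 h).2)
    (by linarith)
  rw [hcount.1] at mA
  rw [hcount.2.1] at mB
  rw [hcount.2.2] at mD
  have h11C : ¬ 11 ∣ C := by
    intro h
    obtain ⟨⟨z, hz⟩, hz11⟩ := exists_prime_orderOf_dvd_card' (G := centralizer ({u} : Set G)) 11 h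
    rw [Subgroup.orderOf_mk] at hz11
    obtain ⟨Q, hQ⟩ := Small.exists_sylow_eq_zpowers hS.card_sylow hz11
    obtain ⟨k, hk⟩ := MulAction.exists_smul_eq G Q P
    have huc : k * u * k⁻¹ ∈ centralizer ((P : Subgroup G) : Set G) := by
      rw [Subgroup.mem_centralizer_iff]
      intro w hw
      rw [← hk, Sylow.coe_subgroup_smul, hQ] at hw
      obtain ⟨w', hw', rfl⟩ := hw
      obtain ⟨l, rfl⟩ := Subgroup.mem_zpowers_iff.1 hw'
      show k * z ^ l * k⁻¹ * (k * u * k⁻¹) = k * u * k⁻¹ * (k * z ^ l * k⁻¹)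
      have h' := ((show Commute z u from Subgroup.mem_centralizer_singleton_iff.1 hz).zpow_left l).eq
      calc k * z ^ l * k⁻¹ * (k * u * k⁻¹) = k * (z ^ l * u) * k⁻¹ := by group
        _ = k * (u * z ^ l) * k⁻¹ := by rw [h']
        _ = _ := by group
    have := Subgroup.orderOf_dvd_natCard _ huc
    rw [hC, ← MulAut.conj_apply, MulEquiv.orderOf_eq, hu] at this
    norm_num at this
  have hC1440 : C ∣ 1440 :=
    ((Fact.out : Nat.Prime 11).coprime_iff_not_dvd.2 h11C).symm.dvd_of_dvd_mul_left ⟨I, by omega⟩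
  refine ten_involution_check C (Finset.mem_filter.2 ⟨Nat.mem_divisors.2 ⟨hC1440, by norm_num⟩, h10⟩)
    _ mA _ mB (by simp only; linarith) _ mD (by simp only; linarith) ?_
  simp only
  have h := S.rel u hreg
  rw [← Finset.add_sum_erase _ _ S.one_mem, S.sign_one, ← hT, show ((Small.one' G : IrrCharacter G) : G → ℂ) u = 1 from rfl,
    Finset.sum_congr rfl (g := fun χ => ((S.σ χ * v χ : ℤ) : ℂ)) fun χ _ => by rw [(hv χ).1]; push_cast; rfl,
    ← Int.cast_sum] at h
  have h' : 1 + ∑ χ ∈ T, S.σ χ * v χ = 0 := by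
    apply Int.cast_injective (α := ℂ)
    push_cast at h ⊢
    linear_combination h
  rw [hsplit, Finset.sum_congr (rfl : A = A) (g := v) fun χ h => by rw [(hcA χ h).2, one_mul],
    Finset.sum_congr (rfl : B = B) (g := fun χ => - v χ) fun χ h => by rw [(hcB χ h).2, neg_one_mul],
    Finset.sum_congr (rfl : D = D) (g := v) fun χ h => by rw [(hcD χ h).2, one_mul], Finset.sum_neg_distrib] at h'
  linarith

end Cfsg.Lib.MTwelveGraph
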